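import Mathlib

/-!
# Fixed spaces are at most half on average over a coset of an abelian normal subgroup
-/

set_option autoImplicit false
set_option linter.unusedSectionVars false
set_option linter.style.haveILetI false

namespace Cfsg.Agent.PrimClass

open Finset

variable {E : Type*} [CommGroup E] [Finite E]

/-- fixed points of a set of automorphisms -/
def fix (S : Set (MulAut E)) : Subgroup E where
  carrier := {v | ∀ a ∈ S, a v = v}
  mul_mem' := fun hx hy a ha => by rw [map_mul, hx a ha, hy a ha]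
  one_mem' := fun a _ => map_one a
  inv_mem' := fun hx a ha => by rw [map_inv, hx a ha]

theorem mem_fix {S : Set (MulAut E)} {v : E} : v ∈ fix S ↔ ∀ a ∈ S, a v = v := Iff.rfl

theorem fix_anti {S T : Set (MulAut E)} (h : S ⊆ T) : fix T ≤ fix S := fun _ hv a ha => hv a (h ha)

theorem mul_apply' (a b : MulAut E) (v : E) : (a * b) v = a (b v) := rfl

/-- the norm of a subgroup of automorphisms -/
noncomputable def nrm (K : Subgroup (MulAut E)) : E →* E :=
  letI := Fintype.ofFinite K
  ∏ k : K, ((k : MulAut E) : E ≃* E).toMonoidHom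

theorem nrm_apply (K : Subgroup (MulAut E)) [Fintype K] (v : E) :
    nrm K v = ∏ k : K, (k : MulAut E) v := by
  rw [nrm, MonoidHom.finsetProd_apply]
  refine Finset.prod_congr ?_ fun k _ => rfl
  ext k
  simp

theorem nrm_mem_fix (K : Subgroup (MulAut E)) (v : E) : nrm K v ∈ fix (K : Set (MulAut E)) := by
  letI := Fintype.ofFinite K
  intro a ha
  rw [nrm_apply, map_prod]
  exact Fintype.prod_equiv (Equiv.mulLeft (⟨a, ha⟩ : K)) _ _ fun k => rfl

theorem nrm_of_fixed (K : Subgroup (MulAut E)) {v : E} (h : v ∈ fix (K : Set (MulAut E))) :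
    nrm K v = v ^ Nat.card K := by
  letI := Fintype.ofFinite K
  rw [nrm_apply, Finset.prod_congr rfl (fun k _ => h _ k.2), Finset.prod_const, Finset.card_univ,
    Nat.card_eq_fintype_card]

theorem nrm_apply_map (K : Subgroup (MulAut E)) (h : MulAut E) (v : E) :
    nrm (K.map (MulAut.conj h).toMonoidHom) (h v) = h (nrm K v) := by
  letI := Fintype.ofFinite K
  letI := Fintype.ofFinite (K.map (MulAut.conj h).toMonoidHom)
  rw [nrm_apply, nrm_apply, map_prod]
  refine (Fintype.prod_equiv (K.equivMapOfInjective _ (MulAut.conj h).injective).toEquiv _ _ fun k => ?_).symm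
  show h ((k : MulAut E) v) = (h * (k : MulAut E) * h⁻¹) (h v)
  simp

section Lines

variable {q : ℕ} [Fact q.Prime] {A : Subgroup (MulAut E)}
  (hab : ∀ a ∈ A, ∀ b ∈ A, a * b = b * a) (hexp : ∀ a ∈ A, a ^ q = 1)

include hab hexp

/-- the norm of a subgroup extended by one element -/
theorem nrm_sup_zpowers {K : Subgroup (MulAut E)} (hK : K ≤ A) {x : MulAut E} (hx : x ∈ A) (hxK : x ∉ K)
    (v : E) : nrm (K ⊔ Subgroup.zpowers x) v = ∏ j ∈ range q, (x ^ j) (nrm K v) := by
  classical
  have hord : orderOf x = q :=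
    orderOf_eq_prime (hexp x hx) (fun h => hxK (h ▸ K.one_mem))
  set L := K ⊔ Subgroup.zpowers x with hL
  letI := Fintype.ofFinite L
  letI := Fintype.ofFinite K
  have hmem : ∀ j : Fin q, ∀ k : K, x ^ (j : ℕ) * (k : MulAut E) ∈ L := fun j k =>
    L.mul_mem (L.pow_mem ((le_sup_right : Subgroup.zpowers x ≤ L) (Subgroup.mem_zpowers x)) _)
      ((le_sup_left : K ≤ L) k.2)
  let f : Fin q × K → L := fun jk => ⟨x ^ (jk.1 : ℕ) * (jk.2 : MulAut E), hmem _ _⟩
  have hinj : Function.Injective f := by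
    rintro ⟨i, k⟩ ⟨j, l⟩ h
    have h' : x ^ (i : ℕ) * (k : MulAut E) = x ^ (j : ℕ) * (l : MulAut E) := congrArg Subtype.val h
    have hz : x ^ ((i : ℤ) - (j : ℤ)) ∈ K := by
      have : x ^ ((i : ℤ) - (j : ℤ)) = (l : MulAut E) * (k : MulAut E)⁻¹ := by
        have hcomm : Commute x (l : MulAut E) := hab x hx _ (hK l.2)
        rw [zpow_sub, zpow_natCast, zpow_natCast, eq_mul_inv_iff_mul_eq,
          show x ^ (i : ℕ) * (x ^ (j : ℕ))⁻¹ * k = (x ^ (j : ℕ))⁻¹ * (x ^ (i : ℕ) * k) by
            rw [(Commute.inv_right (Commute.pow_pow_self x i j)).eq, mul_assoc], h', inv_mul_cancel_left]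
      rw [this]; exact K.mul_mem l.2 (K.inv_mem k.2)
    have hdvd : (q : ℤ) ∣ (i : ℤ) - (j : ℤ) := by
      by_contra hne
      apply hxK
      obtain ⟨a, b, hab'⟩ : ∃ a b : ℤ, a * ((i : ℤ) - j) + b * q = 1 := by
        have hg : Int.gcd ((i : ℤ) - j) q = 1 := by
          rw [Int.gcd_comm, Int.gcd_def, Int.natAbs_natCast]
          exact ((Fact.out : q.Prime).coprime_iff_not_dvd).2 fun hd =>
            hne (Int.natCast_dvd.2 hd)
        obtain ⟨a, b, h1⟩ := Int.isCoprime_iff_gcd_eq_one.2 hg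
        exact ⟨a, b, h1⟩
      have : x = (x ^ ((i : ℤ) - j)) ^ a := by
        rw [← zpow_mul, mul_comm ((i : ℤ) - j)]
        conv_lhs => rw [← zpow_one x, ← hab', zpow_add, mul_comm b, zpow_mul x (q : ℤ), zpow_natCast,
          hexp x hx, one_zpow, mul_one]
      rw [this]; exact K.zpow_mem hz a
    have hij : i = j := by
      have hi := i.2; have hj := j.2
      obtain ⟨c, hc⟩ := hdvd
      have : c = 0 := by nlinarith
      exact Fin.ext (by rw [this, mul_zero] at hc; omega)
    subst hij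
    simp only [mul_right_inj] at h'
    rw [Subtype.ext h']
  have hsurj : Function.Surjective f := by
    rintro ⟨y, hy⟩
    have : y ∈ {z : MulAut E | ∃ (j : ℕ) (k : K), z = x ^ j * (k : MulAut E)} := by
      rw [hL, ← Subgroup.closure_eq K, Subgroup.zpowers_eq_closure, ← Subgroup.closure_union] at hy
      induction hy using Subgroup.closure_induction with
      | mem z hz =>
        rcases hz with hz | hz
        · exact ⟨0, ⟨z, hz⟩, by simp⟩
        · exact ⟨1, 1, by simp [Set.mem_singleton_iff.1 hz]⟩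
      | one => exact ⟨0, 1, by simp⟩
      | mul u w _ _ hu hw =>
        obtain ⟨i, k, rfl⟩ := hu
        obtain ⟨j, l, rfl⟩ := hw
        refine ⟨i + j, k * l, ?_⟩
        have hc : Commute (x ^ j) (k : MulAut E) := (show Commute x (k : MulAut E) from hab x hx _ (hK k.2)).pow_left j
        rw [Subgroup.coe_mul, pow_add]
        rw [mul_assoc, mul_assoc, ← mul_assoc (k : MulAut E), ← hc.eq, mul_assoc]
      | inv u _ hu =>
        obtain ⟨i, k, rfl⟩ := hu
        refine ⟨i * (q - 1), k⁻¹, ?_⟩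
        have hc : Commute x (k : MulAut E) := hab x hx _ (hK k.2)
        rw [mul_inv_rev, Subgroup.coe_inv, ← (hc.inv_right.pow_left i).inv_left.eq]
        congr 1
        refine inv_eq_of_mul_eq_one_right ?_
        rw [← pow_add, show i + i * (q - 1) = q * i from ?_, pow_mul, hexp x hx, one_pow]
        obtain ⟨q', rfl⟩ := Nat.exists_eq_succ_of_ne_zero (Fact.out : q.Prime).ne_zero
        simp; ring
    obtain ⟨j, k, rfl⟩ := this
    exact ⟨⟨⟨j % q, Nat.mod_lt _ (Fact.out : q.Prime).pos⟩, k⟩, Subtype.ext (by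
      show x ^ (j % q) * (k : MulAut E) = x ^ j * (k : MulAut E)
      conv_rhs => rw [← pow_mod_orderOf, hord])⟩
  rw [nrm_apply, ← (Equiv.ofBijective f ⟨hinj, hsurj⟩).prod_comp, Fintype.prod_prod_type,
    ← Fin.prod_univ_eq_prod_range]
  refine Fintype.prod_congr _ _ fun j => ?_
  rw [nrm_apply, map_prod]
  rfl

/-- some norm of a hyperplane does not kill a given nontrivial element -/
theorem exists_hyperplane (hcop : (Nat.card E).Coprime q) (hfix : fix (A : Set (MulAut E)) = ⊥)
    {v : E} (hv : v ≠ 1) : ∃ K : Subgroup (MulAut E), K ≤ A ∧ K.relIndex A = q ∧ nrm K v ≠ 1 := by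
  classical
  obtain ⟨K, ⟨hKA, hKv⟩, hmax⟩ := Set.Finite.exists_maximal
    (Set.toFinite {K : Subgroup (MulAut E) | K ≤ A ∧ nrm K v ≠ 1}) ⟨⊥, bot_le, by
      rw [nrm_of_fixed ⊥ (fun a ha => by rw [Subgroup.mem_bot.1 ha]; rfl), Subgroup.card_bot, pow_one]
      exact hv⟩
  refine ⟨K, hKA, ?_, hKv⟩
  have hne : K ≠ A := by
    rintro rfl
    exact hKv (Subgroup.mem_bot.1 (hfix ▸ nrm_mem_fix K v))
  obtain ⟨a, haA, haK⟩ := SetLike.exists_of_lt (lt_of_le_of_ne hKA hne)
  have hone : ∀ x ∈ A, x ∉ K → ∏ j ∈ range q, (x ^ j) (nrm K v) = 1 := by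
    intro x hx hxK
    rw [← nrm_sup_zpowers hab hexp hKA hx hxK]
    by_contra hh
    have := hmax ⟨sup_le hKA (Subgroup.zpowers_le.2 hx), hh⟩ le_sup_left
    exact hxK (this (le_sup_right (a := K) (Subgroup.mem_zpowers x)))
  by_cases htop : K ⊔ Subgroup.zpowers a = A
  · have hord : orderOf a = q := orderOf_eq_prime (hexp a haA) (fun h => haK (h ▸ K.one_mem))
    have hdvd : K.relIndex A ∣ q := by
      haveI : (K.subgroupOf A).Normal := ⟨fun n hn g => by
        rwa [show g * n * g⁻¹ = n by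
          rw [Subtype.ext (hab g g.2 n n.2) (a1 := g * n) (a2 := n * g), mul_inv_cancel_right]]⟩
      have h2 : Subgroup.zpowers (⟨a, haA⟩ : A) ⊔ K.subgroupOf A = ⊤ := by
        apply Subgroup.map_injective A.subtype_injective
        rw [Subgroup.map_sup, MonoidHom.map_zpowers, Subgroup.subgroupOf_map_subtype, inf_eq_left.2 hKA,
          ← MonoidHom.range_eq_map, Subgroup.range_subtype, sup_comm]
        exact htop
      show (K.subgroupOf A).index ∣ q
      rw [← Subgroup.relIndex_top_right, ← h2, Subgroup.relIndex_sup_right, ← hord,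
        show orderOf a = orderOf (⟨a, haA⟩ : A) from (Subgroup.orderOf_mk a haA).symm, ← Nat.card_zpowers]
      exact Subgroup.relIndex_dvd_card _ _
    rcases (Nat.dvd_prime (Fact.out : q.Prime)).1 hdvd with h1 | h1
    · exact absurd (le_antisymm hKA (Subgroup.relIndex_eq_one.1 h1)) hne
    · exact h1
  exfalso
  obtain ⟨b, hbA, hbK⟩ := SetLike.exists_of_lt
    (lt_of_le_of_ne (sup_le hKA (Subgroup.zpowers_le.2 haA)) htop)
  set w := nrm K v with hw
  have hline : ∀ i : ℕ, ∏ j ∈ range q, ((a * b ^ i) ^ j) w = 1 := fun i => by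
    refine hone _ (A.mul_mem haA (A.pow_mem hbA i)) fun h => ?_
    by_cases hi : q ∣ i
    · obtain ⟨c, rfl⟩ := hi
      rw [pow_mul, hexp b hbA, one_pow, mul_one] at h
      exact haK h
    · apply hbK
      obtain ⟨s, t, hst⟩ := Nat.isCoprime_iff_coprime.2
        (((Fact.out : q.Prime).coprime_iff_not_dvd).2 hi).symm
      have h1 : b ^ (i : ℤ) ∈ K ⊔ Subgroup.zpowers a := by
        rw [zpow_natCast, show b ^ i = a⁻¹ * (a * b ^ i) by group]
        exact mul_mem ((le_sup_right : _ ≤ K ⊔ Subgroup.zpowers a)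
          (inv_mem (Subgroup.mem_zpowers a))) ((le_sup_left : K ≤ _) h)
      have h2 : b = (b ^ (i : ℤ)) ^ s := by
        conv_lhs => rw [← zpow_one b, ← hst, zpow_add, mul_comm t, zpow_mul b (q : ℤ), zpow_natCast,
          hexp b hbA, one_zpow, mul_one, mul_comm s, zpow_mul]
      rw [h2]
      exact zpow_mem h1 s
  have hb' : ∏ j ∈ range q, (b ^ j) w = 1 := hone b hbA fun h => hbK (le_sup_left (b := Subgroup.zpowers a) h)
  haveI : NeZero q := ⟨(Fact.out : q.Prime).ne_zero⟩
  have hmod : ∀ (x : MulAut E), x ∈ A → ∀ n : ℕ, x ^ (n % q) = x ^ n := by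
    intro x hx n
    conv_rhs => rw [← Nat.mod_add_div n q, pow_add, pow_mul, hexp x hx, one_pow, mul_one]
  have hrange : ∀ F : ℕ → E, ∏ j ∈ range q, F j = ∏ j : ZMod q, F j.val := by
    intro F
    refine Finset.prod_nbij' (fun j => (j : ZMod q)) (fun j => j.val) (by simp) ?_ ?_ ?_ ?_
    · exact fun j _ => Finset.mem_range.2 (ZMod.val_lt j)
    · exact fun j hj => ZMod.val_natCast_of_lt (Finset.mem_range.1 hj)
    · exact fun j _ => ZMod.natCast_zmod_val j
    · exact fun j hj => by rw [ZMod.val_natCast_of_lt (Finset.mem_range.1 hj)]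
  have hrow : ∀ j : ℕ, ¬ q ∣ j → ∏ i ∈ range q, ((a * b ^ i) ^ j) w =
      (a ^ j) (∏ i ∈ range q, (b ^ i) w) := by
    intro j hj
    have hcm : ∀ i : ℕ, (a * b ^ i) ^ j = a ^ j * b ^ (i * j) := fun i => by
      rw [(show Commute a (b ^ i) from hab a haA _ (A.pow_mem hbA i)).mul_pow, pow_mul]
    rw [map_prod]
    simp only [hcm, mul_apply']
    rw [hrange, hrange]
    have hj' : (j : ZMod q) ≠ 0 := fun h => hj ((ZMod.natCast_eq_zero_iff j q).1 h)
    refine Fintype.prod_equiv (Equiv.mulRight₀ (j : ZMod q) hj') _ _ fun i => ?_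
    show (a ^ j) ((b ^ (i.val * j)) w) = (a ^ j) ((b ^ (i * (j : ZMod q)).val) w)
    rw [ZMod.val_mul, hmod b hbA, ZMod.val_natCast]
    congr 2
    rw [← hmod b hbA (i.val * j), ← hmod b hbA (i.val * (j % q)), Nat.mul_mod_mod]
  have hwq : w ^ q = 1 := by
    have h0 : ∏ i ∈ range q, ∏ j ∈ range q, ((a * b ^ i) ^ j) w = 1 :=
      Finset.prod_eq_one fun i _ => hline i
    rw [Finset.prod_comm, ← Finset.mul_prod_erase (range q) _
      (Finset.mem_range.2 (Fact.out : q.Prime).pos)] at h0
    rw [Finset.prod_congr rfl (fun i _ => by rw [pow_zero]; rfl : ∀ i ∈ range q, ((a * b ^ i) ^ 0) w = w),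
      Finset.prod_const, Finset.card_range] at h0
    rw [Finset.prod_eq_one (s := (range q).erase 0)] at h0
    · simpa using h0
    · intro j hj
      rw [Finset.mem_erase, Finset.mem_range] at hj
      rw [hrow j (fun hd => hj.1 (Nat.eq_zero_of_dvd_of_lt hd hj.2)), hb', map_one]
  apply hKv
  have h1 : orderOf w ∣ q := orderOf_dvd_of_pow_eq_one hwq
  have h2 : orderOf w ∣ Nat.card E := orderOf_dvd_natCard w
  exact orderOf_eq_one_iff.1 (Nat.eq_one_of_dvd_coprimes hcop h2 h1)

end Lines

/-- the `p`-exponent of the order -/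
noncomputable def vp (p : ℕ) (α : Type*) : ℕ := (Nat.card α).factorization p

theorem vp_le_of_injective {α β : Type*} [Group α] [Group β] [Finite β] (p : ℕ) (f : α →* β)
    (hf : Function.Injective f) : vp p α ≤ vp p β := by
  haveI : Finite α := Finite.of_injective f hf
  exact (Nat.factorization_le_iff_dvd Nat.card_pos.ne' Nat.card_pos.ne').2
    (Subgroup.card_dvd_of_injective f hf) p

theorem vp_pi {ι : Type*} [Fintype ι] (α : ι → Type*) [∀ i, Finite (α i)] [∀ i, Nonempty (α i)]
    (p : ℕ) : vp p (∀ i, α i) = ∑ i, vp p (α i) := by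
  simp only [vp, Nat.card_pi]
  rw [Nat.factorization_prod (fun i _ => Nat.card_pos.ne'), Finsupp.finsetSum_apply]

theorem two_mul_sum_le {ι : Type*} [DecidableEq ι] (s : Finset ι) (x : ι → ℕ) (V : ℕ) (hs : 2 ≤ s.card)
    (h : ∀ i ∈ s, ∀ j ∈ s, i ≠ j → x i + x j ≤ V) : 2 * ∑ i ∈ s, x i ≤ s.card * V := by
  have h1 : ∑ i ∈ s, ∑ j ∈ s.erase i, (x i + x j) ≤ ∑ i ∈ s, ∑ j ∈ s.erase i, V :=
    Finset.sum_le_sum fun i hi => Finset.sum_le_sum fun j hj =>
      h i hi j (Finset.mem_of_mem_erase hj) (Finset.ne_of_mem_erase hj).symm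
  have h2 : ∀ i ∈ s, ∑ j ∈ s.erase i, (x i + x j) + 2 * x i = s.card * x i + ∑ j ∈ s, x j := by
    intro i hi
    rw [Finset.sum_add_distrib, Finset.sum_const, smul_eq_mul, Finset.card_erase_of_mem hi,
      ← Finset.add_sum_erase s x hi]
    obtain ⟨c, hc⟩ := Nat.exists_eq_succ_of_ne_zero (show s.card ≠ 0 by omega)
    rw [hc]; simp; ring
  have h3 := Finset.sum_congr rfl h2
  rw [Finset.sum_add_distrib, Finset.sum_add_distrib, ← Finset.mul_sum, ← Finset.mul_sum,
    Finset.sum_const, smul_eq_mul] at h3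
  have h4 : ∑ i ∈ s, ∑ j ∈ s.erase i, V = s.card * ((s.card - 1) * V) := by
    rw [Finset.sum_congr rfl (fun i hi => by
      rw [Finset.sum_const, smul_eq_mul, Finset.card_erase_of_mem hi]), Finset.sum_const, smul_eq_mul]
  rw [h4] at h1
  obtain ⟨c, hc⟩ := Nat.exists_eq_add_of_le hs
  rw [hc] at h1 h3 ⊢
  rw [show 2 + c - 1 = c + 1 by omega] at h1
  nlinarith

/-- **Coset averaging.** Over a coset of an elementary abelian coprime group without fixed points the
fixed subgroups have on average at most half the exponent. -/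
theorem coset_average (p q : ℕ) [Fact q.Prime] (hcop : (Nat.card E).Coprime q)
    (A : Subgroup (MulAut E)) (hab : ∀ a ∈ A, ∀ b ∈ A, a * b = b * a) (hexp : ∀ a ∈ A, a ^ q = 1)
    (hfix : fix (A : Set (MulAut E)) = ⊥) (h : MulAut E) (hn : ∀ a, h * a * h⁻¹ ∈ A ↔ a ∈ A)
    [Fintype A] :
    2 * ∑ a : A, vp p (fix {h * (a : MulAut E)}) ≤ Fintype.card A * vp p E := by
  classical
  set Ω : Finset (Subgroup (MulAut E)) :=
    (Set.toFinite {K : Subgroup (MulAut E) | K ≤ A ∧ K.relIndex A = q}).toFinset with hΩ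
  have hmemΩ : ∀ K, K ∈ Ω ↔ K ≤ A ∧ K.relIndex A = q := fun K => by simp [hΩ]
  let c : Subgroup (MulAut E) → Subgroup (MulAut E) := fun K => K.map (MulAut.conj h).toMonoidHom
  have hcinj : Function.Injective c := Subgroup.map_injective (MulAut.conj h).injective
  have hcA : c A = A := by
    ext x
    constructor
    · rintro ⟨a, ha, rfl⟩; exact (hn a).2 ha
    · intro hx
      refine ⟨h⁻¹ * x * h, (hn _).1 (by rwa [show h * (h⁻¹ * x * h) * h⁻¹ = x by group]), ?_⟩
      show h * (h⁻¹ * x * h) * h⁻¹ = x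
      group
  have hcΩ : ∀ K ∈ Ω, c K ∈ Ω := by
    intro K hK
    rw [hmemΩ] at hK ⊢
    refine ⟨hcA ▸ Subgroup.map_mono hK.1, ?_⟩
    conv_lhs => rw [← hcA]
    rw [Subgroup.relIndex_map_map_of_injective _ _ (MulAut.conj h).injective, hK.2]
  -- distinct hyperplanes have independent fixed groups
  have hgen : ∀ K ∈ Ω, ∀ x ∈ A, x ∉ K → fix ((K : Set (MulAut E)) ∪ {x}) = ⊥ := by
    intro K hK x hx hxK
    obtain ⟨hKA, hidx⟩ := (hmemΩ K).1 hK
    have hlt : K < K ⊔ Subgroup.zpowers x := lt_of_le_of_ne le_sup_left fun he =>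
      hxK (he ▸ (le_sup_right : _ ≤ K ⊔ Subgroup.zpowers x) (Subgroup.mem_zpowers x))
    have hle : K ⊔ Subgroup.zpowers x ≤ A := sup_le hKA (Subgroup.zpowers_le.2 hx)
    have hAeq : K ⊔ Subgroup.zpowers x = A := by
      refine le_antisymm hle (Subgroup.relIndex_eq_one.1 ?_)
      have h1 := Subgroup.relIndex_mul_relIndex K (K ⊔ Subgroup.zpowers x) A le_sup_left hle
      rw [hidx] at h1
      rcases (Nat.dvd_prime (Fact.out : q.Prime)).1 (Dvd.intro _ h1) with h2 | h2
      · exact absurd (Subgroup.relIndex_eq_one.1 h2) hlt.not_ge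
      · rw [h2] at h1
        exact Nat.eq_of_mul_eq_mul_left (Fact.out : q.Prime).pos (h1.trans (mul_one q).symm)
    rw [eq_bot_iff, ← hfix]
    intro v hv
    have : A ≤ MulAction.stabilizer (MulAut E) v := by
      rw [← hAeq]
      refine sup_le (fun k hk => hv k (Or.inl hk)) (Subgroup.zpowers_le.2 (hv x (Or.inr rfl)))
    exact fun a ha => this ha
  have hcross : ∀ K ∈ Ω, ∀ L ∈ Ω, K ≠ L → ∀ u ∈ fix (K : Set (MulAut E)), nrm L u = 1 := by
    intro K hK L hL hne u hu
    obtain ⟨x, hxL, hxK⟩ : ∃ x ∈ L, x ∉ K := by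
      by_contra hh
      push Not at hh
      have h1 := ((hmemΩ K).1 hK)
      have h2 := ((hmemΩ L).1 hL)
      have h3 := Subgroup.relIndex_mul_relIndex L K A hh h1.1
      rw [h1.2, h2.2] at h3
      exact hne (le_antisymm (Subgroup.relIndex_eq_one.1
        (Nat.eq_of_mul_eq_mul_right (Fact.out : q.Prime).pos (h3.trans (one_mul q).symm))) hh)
    have h1 : nrm L u ∈ fix ((K : Set (MulAut E)) ∪ {x}) := by
      rintro a (ha | ha)
      · letI := Fintype.ofFinite L
        rw [nrm_apply, map_prod]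
        refine Finset.prod_congr rfl fun l _ => ?_
        rw [← mul_apply', hab a (((hmemΩ K).1 hK).1 ha) _ (((hmemΩ L).1 hL).1 l.2), mul_apply',
          hu a ha]
      · rw [Set.mem_singleton_iff.1 ha]
        exact nrm_mem_fix L u x hxL
    rw [hgen K hK x (((hmemΩ L).1 hL).1 hxL) hxK] at h1
    exact Subgroup.mem_bot.1 h1
  have hself : ∀ K ∈ Ω, ∀ u ∈ fix (K : Set (MulAut E)), nrm K u = 1 → u = 1 := by
    intro K hK u hu h1
    rw [nrm_of_fixed K hu] at h1
    have h2 : orderOf u ∣ Nat.card K := orderOf_dvd_of_pow_eq_one h1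
    have h3 : IsPGroup q K := fun k => ⟨1, Subtype.ext (by
      rw [pow_one, SubgroupClass.coe_pow]; exact hexp _ (((hmemΩ K).1 hK).1 k.2))⟩
    obtain ⟨n, hn'⟩ := IsPGroup.iff_card.1 h3
    rw [hn'] at h2
    exact orderOf_eq_one_iff.1 (Nat.eq_one_of_dvd_coprimes (hcop.pow_right n)
      (orderOf_dvd_natCard u) h2)
  set W : Subgroup (MulAut E) → ℕ := fun K => vp p (fix (K : Set (MulAut E))) with hW
  have hsumW : ∑ K ∈ Ω, W K ≤ vp p E := by
    rw [← Finset.sum_coe_sort, ← vp_pi (fun K : Ω => fix ((K : Subgroup (MulAut E)) : Set (MulAut E)))]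
    refine vp_le_of_injective p
      (MonoidHom.mk' (fun u => ∏ K : Ω, ((u K : E))) fun u u' => by
        simp [Finset.prod_mul_distrib]) ((injective_iff_map_eq_one _).2 fun u hu => ?_)
    funext L
    apply Subtype.ext
    refine hself L L.2 _ (u L).2 ?_
    have h1 := congrArg (nrm (L : Subgroup (MulAut E))) (show ∏ K : Ω, ((u K : E)) = 1 from hu)
    rw [map_prod, map_one, Finset.prod_eq_single L (fun K _ hKL => hcross K K.2 L L.2
      (fun e => hKL (Subtype.ext e)) _ (u K).2) (fun hh => absurd (Finset.mem_univ L) hh)] at h1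
    exact h1
  have hWc : ∀ K, W (c K) = W K := by
    intro K
    have : fix ((c K : Subgroup (MulAut E)) : Set (MulAut E)) =
        (fix (K : Set (MulAut E))).map (h : E ≃* E).toMonoidHom := by
      ext v
      constructor
      · intro hv
        refine ⟨h⁻¹ v, fun k hk => ?_, MulAut.apply_inv_self _ h v⟩
        have h1 := hv _ ⟨k, hk, rfl⟩
        have h2 : (MulAut.conj h k) v = h (k (h⁻¹ v)) := rfl
        simp only [MulEquiv.coe_toMonoidHom] at h1
        rw [h2] at h1
        exact h.injective (h1.trans (MulAut.apply_inv_self _ h v).symm)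
      · rintro ⟨u, hu, rfl⟩ _ ⟨k, hk, rfl⟩
        show (h * k * h⁻¹) (h u) = h u
        simp [hu k hk]
    simp only [hW, this, vp]
    rw [Subgroup.card_map_of_injective (f := (h : E ≃* E).toMonoidHom) (h : E ≃* E).injective]
  -- representatives of the moved orbits
  obtain ⟨ν, hν⟩ : ∃ ν : Subgroup (MulAut E) → ℕ, Function.Injective ν := by
    haveI := Fintype.ofFinite (Subgroup (MulAut E))
    exact ⟨fun K => (Fintype.equivFin _ K : ℕ), Fin.val_injective.comp (Equiv.injective _)⟩
  set Fx := Ω.filter fun K => c K = K with hFx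
  set Mv := Ω.filter fun K => ¬ c K = K with hMv
  set R := Mv.filter fun K => ∀ n : ℕ, ν K ≤ ν (c^[n] K) with hR
  have hiter : ∀ n K, K ∈ Mv → c^[n] K ∈ Mv := by
    intro n
    induction n with
    | zero => exact fun K hK => hK
    | succ n ih =>
      intro K hK
      rw [Function.iterate_succ_apply]
      refine ih _ ?_
      rw [hMv, Finset.mem_filter] at hK ⊢
      exact ⟨hcΩ K hK.1, fun e => hK.2 (hcinj e)⟩
  have hper : ∀ K, ∃ m, 0 < m ∧ c^[m] K = K := by
    intro K
    haveI : Finite (Subgroup (MulAut E)) := inferInstance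
    obtain ⟨i, j, hne, he⟩ := Finite.exists_ne_map_eq_of_infinite fun n : ℕ => c^[n] K
    wlog hij : i < j generalizing i j
    · exact this j i hne.symm he.symm (by omega)
    refine ⟨j - i, by omega, hcinj.iterate i ?_⟩
    rw [← Function.iterate_add_apply, Nat.add_sub_cancel' hij.le, ← he]
  have hrep : ∀ K ∈ Mv, ∃ L ∈ R, ∃ n, c^[n] L = K := by
    intro K hK
    obtain ⟨n₀, hmin⟩ : ∃ n₀, ∀ n, ν (c^[n₀] K) ≤ ν (c^[n] K) :=
      ⟨Function.argmin (fun n => ν (c^[n] K)), fun n => Function.argmin_le (fun n => ν (c^[n] K)) n⟩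
    refine ⟨c^[n₀] K, Finset.mem_filter.2 ⟨hiter n₀ K hK, fun n => ?_⟩, ?_⟩
    · rw [← Function.iterate_add_apply]; exact hmin _
    · obtain ⟨m, hm, hmK⟩ := hper K
      refine ⟨n₀ * m - n₀, ?_⟩
      rw [← Function.iterate_add_apply, Nat.sub_add_cancel (Nat.le_mul_of_pos_right _ hm),
        mul_comm, Function.iterate_mul]
      exact Function.iterate_fixed hmK _
  have hRdisj : Disjoint R (R.image c) := by
    rw [Finset.disjoint_left]
    intro K hK hK'
    obtain ⟨L, hL, rfl⟩ := Finset.mem_image.1 hK'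
    rw [hR, Finset.mem_filter] at hK hL
    obtain ⟨m, hm, hmL⟩ := hper L
    have h1 := hL.2 1
    have h2 := hK.2 (m - 1)
    rw [← Function.iterate_succ_apply, show (m - 1).succ = m by omega, hmL] at h2
    rw [Function.iterate_one] at h1
    exact (Finset.mem_filter.1 hL.1).2 (hν (le_antisymm h2 h1))
  have hRW : 2 * ∑ K ∈ R, W K ≤ ∑ K ∈ Mv, W K := by
    have h1 : ∑ K ∈ R.image c, W K = ∑ K ∈ R, W K := by
      rw [Finset.sum_image hcinj.injOn]
      exact Finset.sum_congr rfl fun K _ => hWc K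
    rw [two_mul]
    conv_lhs => arg 2; rw [← h1]
    rw [← Finset.sum_union hRdisj]
    refine Finset.sum_le_sum_of_subset (Finset.union_subset (Finset.filter_subset _ _) ?_)
    intro K hK
    obtain ⟨L, hL, rfl⟩ := Finset.mem_image.1 hK
    exact hiter 1 L (Finset.mem_filter.1 hL).1
  -- the bound for one element of the coset
  let U : Subgroup (MulAut E) → MulAut E → ℕ := fun K a =>
    vp p (fix ((K : Set (MulAut E)) ∪ {h * a}))
  have hbound : ∀ a : A, vp p (fix {h * (a : MulAut E)}) ≤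
      ∑ K ∈ Fx, U K a + ∑ K ∈ R, W K := by
    intro a
    set g := h * (a : MulAut E) with hg
    set T := fix {g}
    have hgc : ∀ K ∈ Ω, ∀ v ∈ T, nrm (c K) v = g (nrm K v) := by
      intro K hK v hv
      have hKg : c K = K.map (MulAut.conj g).toMonoidHom := by
        apply Subgroup.ext
        intro x
        have hca : ∀ k ∈ K, h * k * h⁻¹ = g * k * g⁻¹ := fun k hk => by
          rw [hg, mul_inv_rev, show h * (a : MulAut E) * k * ((a : MulAut E)⁻¹ * h⁻¹) =
            h * ((a : MulAut E) * k * (a : MulAut E)⁻¹) * h⁻¹ by group,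
            hab a a.2 k (((hmemΩ K).1 hK).1 hk), mul_inv_cancel_right]
        constructor
        · rintro ⟨k, hk, rfl⟩; exact ⟨k, hk, (hca k hk).symm⟩
        · rintro ⟨k, hk, rfl⟩; exact ⟨k, hk, hca k hk⟩
      have h2 := nrm_apply_map K g v
      rw [hv g rfl, ← hKg] at h2
      exact h2
    have hFmem : ∀ K : Fx, ∀ v ∈ T, nrm (K : Subgroup (MulAut E)) v ∈
        fix (((K : Subgroup (MulAut E)) : Set (MulAut E)) ∪ {g}) := by
      rintro ⟨K, hK⟩ v hv x (hx | hx)
      · exact nrm_mem_fix K v x hx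
      · rw [hFx, Finset.mem_filter] at hK
        rw [Set.mem_singleton_iff.1 hx]
        conv_rhs => rw [show (nrm K) v = nrm (c K) v by rw [hK.2]]
        exact (hgc K hK.1 v hv).symm
    let Φ : T →* (∀ K : Fx, fix (((K : Subgroup (MulAut E)) : Set (MulAut E)) ∪ {g})) ×
        (∀ K : R, fix ((K : Subgroup (MulAut E)) : Set (MulAut E))) :=
      MonoidHom.prod
        (MonoidHom.pi fun K => ((nrm (K : Subgroup (MulAut E))).comp T.subtype).codRestrict _
          fun v => hFmem K v v.2)
        (MonoidHom.pi fun K => ((nrm (K : Subgroup (MulAut E))).comp T.subtype).codRestrict _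
          fun v => nrm_mem_fix _ _)
    have hΦ : Function.Injective Φ := (injective_iff_map_eq_one Φ).2 fun v hv => by
      by_contra hne
      obtain ⟨K, hKA, hKi, hKv⟩ := exists_hyperplane hab hexp hcop hfix
        (v := (v : E)) (fun e => hne (Subtype.ext e))
      apply hKv
      have hK : K ∈ Ω := (hmemΩ K).2 ⟨hKA, hKi⟩
      by_cases hfx : c K = K
      · exact congrArg Subtype.val (congrFun (congrArg Prod.fst hv) ⟨K, Finset.mem_filter.2 ⟨hK, hfx⟩⟩)
      · obtain ⟨L, hL, n, rfl⟩ := hrep K (Finset.mem_filter.2 ⟨hK, hfx⟩)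
        have hbase : nrm L (v : E) = 1 := congrArg Subtype.val (congrFun (congrArg Prod.snd hv) ⟨L, hL⟩)
        clear hKA hKi hKv hK hfx
        induction n with
        | zero => exact hbase
        | succ n ih =>
          rw [Function.iterate_succ_apply', hgc _ (Finset.mem_filter.1 (hiter n L
            (Finset.mem_filter.1 hL).1)).1 _ v.2, ih, map_one]
    refine (vp_le_of_injective p Φ hΦ).trans ?_
    rw [vp, Nat.card_prod, Nat.factorization_mul Nat.card_pos.ne' Nat.card_pos.ne', Finsupp.add_apply]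
    refine le_of_eq (congrArg₂ (· + ·) ?_ ?_)
    · show vp p _ = _
      rw [vp_pi]
      exact Finset.sum_coe_sort Fx (fun K => U K a)
    · show vp p _ = _
      rw [vp_pi]
      exact Finset.sum_coe_sort R W
  -- fixed hyperplanes
  have hFU : ∀ K ∈ Fx, 2 * ∑ a : A, U K a ≤ Fintype.card A * W K := by
    intro K hK
    have hK' : K ∈ Ω := (Finset.mem_filter.1 hK).1
    obtain ⟨hKA, hKi⟩ := (hmemΩ K).1 hK'
    set Y := fix (K : Set (MulAut E))
    have hpair : ∀ a b : A, (b : MulAut E)⁻¹ * a ∉ K → U K a + U K b ≤ W K := by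
      intro a b hab'
      let S1 := fix ((K : Set (MulAut E)) ∪ {h * (a : MulAut E)})
      let S2 := fix ((K : Set (MulAut E)) ∪ {h * (b : MulAut E)})
      let Ψ : S1 × S2 →* Y :=
        (MonoidHom.coprod (S1.subtype) (S2.subtype)).codRestrict Y fun z =>
          Y.mul_mem (fix_anti Set.subset_union_left z.1.2) (fix_anti Set.subset_union_left z.2.2)
      have hΨ : Function.Injective Ψ := (injective_iff_map_eq_one Ψ).2 fun z hz => by
        have h1 : (z.1 : E) * (z.2 : E) = 1 := congrArg Subtype.val hz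
        have h2 : (z.1 : E) ∈ fix ((K : Set (MulAut E)) ∪ {(b : MulAut E)⁻¹ * a}) := by
          rintro x (hx | hx)
          · exact z.1.2 x (Or.inl hx)
          · have e1 : (h * (a : MulAut E)) (z.1 : E) = z.1 := z.1.2 _ (Or.inr rfl)
            have e2 : (h * (b : MulAut E)) (z.1 : E) = z.1 := by
              rw [eq_inv_of_mul_eq_one_left h1]
              exact S2.inv_mem z.2.2 _ (Or.inr rfl)
            rw [Set.mem_singleton_iff.1 hx,
              show (b : MulAut E)⁻¹ * a = (h * b)⁻¹ * (h * a) by group, mul_apply', e1]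
            conv_lhs => rw [← e2]
            rw [MulAut.inv_apply_self]
        rw [hgen K hK' _ (A.mul_mem (A.inv_mem b.2) a.2) hab', Subgroup.mem_bot] at h2
        rw [h2, one_mul] at h1
        exact Prod.ext (Subtype.ext h2) (Subtype.ext h1)
      have h3 := vp_le_of_injective p Ψ hΨ
      rw [vp, Nat.card_prod, Nat.factorization_mul Nat.card_pos.ne' Nat.card_pos.ne', Finsupp.add_apply] at h3
      exact h3
    have hconst : ∀ a b : A, (b : MulAut E)⁻¹ * a ∈ K → U K a = U K b := by
      intro a b hab'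
      simp only [U, vp]
      congr 2
      refine Nat.card_congr (Equiv.cast (congrArg (fun S : Subgroup E => ↥S) ?_))
      ext v
      constructor
      · rintro hv x (hx | hx)
        · exact hv x (Or.inl hx)
        · rw [Set.mem_singleton_iff.1 hx, show h * (b : MulAut E) = h * a * (((b : MulAut E)⁻¹ * a)⁻¹) by group,
            mul_apply', hv _ (Or.inl (K.inv_mem hab')), hv _ (Or.inr rfl)]
      · rintro hv x (hx | hx)
        · exact hv x (Or.inl hx)
        · rw [Set.mem_singleton_iff.1 hx, show h * (a : MulAut E) = h * b * ((b : MulAut E)⁻¹ * a) by group,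
            mul_apply', hv _ (Or.inl hab'), hv _ (Or.inr rfl)]
    set K' := K.subgroupOf A with hK'def
    letI := Fintype.ofFinite (A ⧸ K')
    have hval : ∀ a : A, U K a = U K ((a : A ⧸ K').out) := by
      intro a
      refine hconst _ _ ?_
      have := QuotientGroup.eq.1 (a : A ⧸ K').out_eq'
      simpa [hK'def, Subgroup.mem_subgroupOf] using this
    have hcardQ : Fintype.card (A ⧸ K') = q := by
      rw [← Nat.card_eq_fintype_card]; exact hKi
    have hcardA : Fintype.card A = q * Nat.card K' := by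
      rw [← Nat.card_eq_fintype_card, K'.card_eq_card_quotient_mul_card_subgroup,
        Nat.card_eq_fintype_card (α := A ⧸ K'), hcardQ]
    have hsum : ∑ a : A, U K a = Nat.card K' * ∑ x : A ⧸ K', U K x.out := by
      rw [← Finset.sum_fiberwise (s := Finset.univ) (g := fun a : A => (a : A ⧸ K'))
        (f := fun a : A => U K a), Finset.mul_sum]
      refine Finset.sum_congr rfl fun x _ => ?_
      rw [Finset.sum_congr rfl (fun a ha => by rw [hval a, (Finset.mem_filter.1 ha).2] :
        ∀ a ∈ Finset.univ.filter (fun a : A => (a : A ⧸ K') = x), U K a = U K x.out),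
        Finset.sum_const, smul_eq_mul]
      congr 1
      rw [← Fintype.card_subtype, ← Nat.card_eq_fintype_card]
      obtain ⟨a₀, rfl⟩ := QuotientGroup.mk_surjective x
      refine Nat.card_congr
        { toFun := fun a => ⟨a₀⁻¹ * a.1, QuotientGroup.eq.1 a.2.symm⟩
          invFun := fun k => ⟨a₀ * k.1, by
            rw [eq_comm, QuotientGroup.eq]; simp⟩
          left_inv := fun a => Subtype.ext (mul_inv_cancel_left _ _)
          right_inv := fun k => Subtype.ext (inv_mul_cancel_left _ _) }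
    rw [hsum, hcardA, mul_left_comm, mul_comm q, mul_assoc]
    refine Nat.mul_le_mul_left _ ?_
    have h5 := two_mul_sum_le (Finset.univ : Finset (A ⧸ K')) (fun x => U K x.out) (W K)
      (by rw [Finset.card_univ, hcardQ]; exact (Fact.out : q.Prime).two_le) (fun x _ y _ hxy => by
        refine hpair _ _ fun hmem => hxy ?_
        rw [← x.out_eq', ← y.out_eq', eq_comm, QuotientGroup.eq]
        simpa [hK'def, Subgroup.mem_subgroupOf] using hmem)
    rwa [Finset.card_univ, hcardQ] at h5
  calc 2 * ∑ a : A, vp p (fix {h * (a : MulAut E)})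
      ≤ 2 * ∑ a : A, (∑ K ∈ Fx, U K a + ∑ K ∈ R, W K) :=
        Nat.mul_le_mul_left _ (Finset.sum_le_sum fun a _ => hbound a)
    _ = ∑ K ∈ Fx, 2 * ∑ a : A, U K a + Fintype.card A * (2 * ∑ K ∈ R, W K) := by
        rw [Finset.sum_add_distrib, Finset.sum_comm, mul_add, Finset.mul_sum, Finset.sum_const,
          Finset.card_univ, smul_eq_mul]
        ring
    _ ≤ ∑ K ∈ Fx, Fintype.card A * W K + Fintype.card A * ∑ K ∈ Mv, W K :=
        Nat.add_le_add (Finset.sum_le_sum hFU) (Nat.mul_le_mul_left _ hRW)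
    _ = Fintype.card A * ∑ K ∈ Ω, W K := by
        rw [← Finset.mul_sum, ← mul_add, hFx, hMv, Finset.sum_filter_add_sum_filter_not]
    _ ≤ Fintype.card A * vp p E := Nat.mul_le_mul_left _ hsumW

end Cfsg.Agent.PrimClass
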