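import Cfsg.Agent.PrimitiveClass.Main
import Cfsg.Agent.Chars.PrimitiveMetanilpotent

/-!
# From primitive characters to quasiprimitive matrix groups
-/

set_option autoImplicit false
set_option linter.unusedSectionVars false
set_option linter.style.haveILetI false

namespace Cfsg.Agent.PrimClass

open Matrix Cfsg.Lib.Chars
open scoped ComplexConjugate

universe u

variable {G : Type u} [Group G] [Fintype G] {n : ℕ}

/-- the matrices of a representation -/
noncomputable def mat (ρ : Representation ℂ G (Fin n → ℂ)) (g : G) : Matrix (Fin n) (Fin n) ℂ :=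
  LinearMap.toMatrix' (ρ g)

theorem mat_mul (ρ : Representation ℂ G (Fin n → ℂ)) (g h : G) :
    mat ρ (g * h) = mat ρ g * mat ρ h := by
  rw [mat, map_mul]; exact LinearMap.toMatrix'_comp _ _

theorem mat_one (ρ : Representation ℂ G (Fin n → ℂ)) : mat ρ 1 = 1 := by
  rw [mat, map_one]; exact LinearMap.toMatrix'_id

theorem proj_mat (ρ : Representation ℂ G (Fin n → ℂ)) : Proj (mat ρ) where
  unit g := ⟨⟨mat ρ g, mat ρ g⁻¹, by rw [← mat_mul, mul_inv_cancel, mat_one],
    by rw [← mat_mul, inv_mul_cancel, mat_one]⟩, rfl⟩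
  mul g h := ⟨1, one_ne_zero, by rw [one_smul, mat_mul]⟩

theorem trace_mat (ρ : Representation ℂ G (Fin n → ℂ)) (g : G) : (mat ρ g).trace = ρ.character g :=
  Matrix.trace_toLin'_eq (LinearMap.toMatrix' (ρ g)) ▸ by
    rw [Matrix.toLin'_toMatrix']; rfl

theorem schur_mat (ρ : Representation ℂ G (Fin n → ℂ)) [ρ.IsIrreducible] (X : Matrix (Fin n) (Fin n) ℂ)
    (h : ∀ g, X * mat ρ g = mat ρ g * X) : IsScal X := by
  obtain ⟨c, hc⟩ := schur_scalar ρ (Matrix.toLin' X) fun g v => by
    have h1 := congrArg (fun Y => Matrix.toLin' Y v) (h g)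
    simpa [mat, Matrix.toLin'_mul, Matrix.toLin'_toMatrix'] using h1
  exact ⟨c, by
    apply Matrix.toLin'.injective
    rw [hc, map_smul, Matrix.toLin'_one]⟩

theorem neZero_of_irr (ρ : Representation ℂ G (Fin n → ℂ)) [ρ.IsIrreducible] : NeZero n := ⟨by
  rintro rfl
  exact IsIrrCharacter.apply_one_ne_zero (χ := ρ.character) ⟨0, ρ, inferInstance, rfl⟩
    (by rw [ρ.char_one, Module.finrank_fin_fun, Nat.cast_zero])⟩

/-- An element of the span of a normal subgroup with vanishing trace form is zero. -/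
theorem eq_zero_of_trace (ρ : Representation ℂ G (Fin n → ℂ)) [ρ.IsIrreducible] (N : Subgroup G) [N.Normal]
    {Y : Matrix (Fin n) (Fin n) ℂ} (hY : Y ∈ Submodule.span ℂ (mat ρ '' (N : Set G)))
    (h : ∀ l ∈ N, (Y * mat ρ l).trace = 0) : Y = 0 := by
  classical
  letI : Fintype N := Fintype.ofFinite N
  have hχ : Cfsg.IsCharacter G ρ.character := ⟨n, ρ, rfl⟩
  set T := ∑ j : N, ρ.character (j : G) • mat ρ ((j : G)⁻¹) with hT
  -- projection formula
  have hproj : ∀ Z ∈ Submodule.span ℂ (mat ρ '' (N : Set G)),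
      ∑ l : N, (Z * mat ρ (l : G)).trace • mat ρ ((l : G)⁻¹) = T * Z := by
    intro Z hZ
    induction hZ using Submodule.span_induction with
    | mem z hz =>
      obtain ⟨k, hk, rfl⟩ := hz
      rw [hT, Finset.sum_mul]
      refine Fintype.sum_equiv (Equiv.mulLeft (⟨k, hk⟩ : N)) _ _ fun l => ?_
      show _ = ρ.character (k * l) • mat ρ ((k * (l : G))⁻¹) * mat ρ k
      rw [← mat_mul, trace_mat, smul_mul_assoc, ← mat_mul, _root_.mul_inv_rev, inv_mul_cancel_right]
    | zero => simp
    | add a b _ _ ha hb =>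
      simp only [add_mul, trace_add, add_smul, Finset.sum_add_distrib, mul_add, ha, hb]
    | smul c a _ ha =>
      simp only [smul_mul_assoc, trace_smul, smul_eq_mul, ← smul_smul, ← Finset.smul_sum, ha, mul_smul_comm]
  obtain ⟨t, ht⟩ := schur_mat ρ T fun g => by
    rw [hT, Finset.sum_mul, Finset.mul_sum]
    refine Fintype.sum_equiv ((MulAut.conjNormal g⁻¹ : MulAut N).toEquiv) _ _ fun j => ?_
    show _ = mat ρ g * (ρ.character ((MulAut.conjNormal g⁻¹ j : N) : G) •
      mat ρ (((MulAut.conjNormal g⁻¹ j : N) : G))⁻¹)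
    rw [MulAut.conjNormal_apply, inv_inv, smul_mul_assoc, mul_smul_comm, ← mat_mul, ← mat_mul,
      show ρ.character (g⁻¹ * (j : G) * g) = ρ.character (j : G) by
        have h1 := ρ.char_conj (j : G) g⁻¹
        rwa [inv_inv] at h1]
    congr 2
    group
  have ht0 : t ≠ 0 := by
    intro h0
    have h1 : T.trace = 0 := by rw [ht, h0, zero_smul, trace_zero]
    rw [hT, trace_sum] at h1
    simp only [trace_smul, trace_mat, smul_eq_mul] at h1
    have h2 : ∀ j : N, ρ.character (j : G) * ρ.character ((j : G)⁻¹) =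
        ((Complex.normSq (ρ.character (j : G)) : ℝ) : ℂ) := fun j => by
      rw [IsCharacter.conj_inv hχ, Complex.mul_conj]
    simp only [h2, ← Complex.ofReal_sum, Complex.ofReal_eq_zero] at h1
    have h3 := (Finset.sum_eq_zero_iff_of_nonneg fun j _ => Complex.normSq_nonneg _).1 h1 1 (Finset.mem_univ _)
    have hirr : Cfsg.IsIrrCharacter G ρ.character := ⟨n, ρ, inferInstance, rfl⟩
    exact IsIrrCharacter.apply_one_ne_zero hirr (Complex.normSq_eq_zero.1 h3)
  have h4 := hproj Y hY
  rw [Finset.sum_eq_zero (fun l _ => by rw [h l l.2, zero_smul]), ht, smul_mul_assoc, one_mul] at h4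
  exact (smul_eq_zero.1 h4.symm).resolve_left ht0

/-- A primitive character gives a quasiprimitive matrix group. -/
theorem quasi_mat (ρ : Representation ℂ G (Fin n → ℂ)) [ρ.IsIrreducible]
    (hp : PrimChar ρ.character) : Quasi (mat ρ) := by
  classical
  intro N hN X hX hcomm
  haveI := hN
  letI : Fintype N := Fintype.ofFinite N
  have hirr : Cfsg.IsIrrCharacter G ρ.character := ⟨n, ρ, inferInstance, rfl⟩
  obtain ⟨θ, hθ, hθc⟩ := exists_constituent N (isCharacter_of_irr hirr) (IsIrrCharacter.apply_one_ne_zero hirr)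
  obtain ⟨e, he, heq⟩ := restrict_eq_mult_of_invariant N hirr hθ (hp.invariant hirr N hθ hθc) hθc
  obtain ⟨d, σ, hσ, hσθ⟩ := hθ
  haveI := hσ
  haveI := neZero_of_irr ρ
  haveI := neZero_of_irr σ
  have hrest : ∀ k : N, ρ.character (k : G) = (e : ℂ) * σ.character k := fun k => by
    have := congrFun heq k
    simpa [hσθ] using this
  have htr : ∀ Z ∈ Submodule.span ℂ (mat ρ '' (N : Set G)), ∃ Z' : Matrix (Fin d) (Fin d) ℂ,
      Z' ∈ Submodule.span ℂ (mat σ '' ((⊤ : Subgroup N) : Set N)) ∧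
        ∀ l m : N, (Z * mat ρ (l : G)).trace = (e : ℂ) * (Z' * mat σ l).trace ∧
          (mat ρ (m : G) * Z * mat ρ (l : G)).trace = (e : ℂ) * (mat σ m * Z' * mat σ l).trace := by
    intro Z hZ
    induction hZ using Submodule.span_induction with
    | mem z hz =>
      obtain ⟨k, hk, rfl⟩ := hz
      refine ⟨mat σ ⟨k, hk⟩, Submodule.subset_span ⟨_, trivial, rfl⟩, fun l m => ⟨?_, ?_⟩⟩
      · rw [← mat_mul, ← mat_mul, trace_mat, trace_mat, ← hrest]; rfl
      · rw [← mat_mul, ← mat_mul, ← mat_mul, ← mat_mul, trace_mat, trace_mat, ← hrest]; rfl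
    | zero => exact ⟨0, zero_mem _, fun l m => by simp⟩
    | add a b _ _ ha hb =>
      obtain ⟨a', ha1, ha2⟩ := ha
      obtain ⟨b', hb1, hb2⟩ := hb
      refine ⟨a' + b', add_mem ha1 hb1, fun l m => ⟨?_, ?_⟩⟩
      · simp only [add_mul, trace_add, (ha2 l m).1, (hb2 l m).1, mul_add]
      · simp only [mul_add, add_mul, trace_add, (ha2 l m).2, (hb2 l m).2]
    | smul c a _ ha =>
      obtain ⟨a', ha1, ha2⟩ := ha
      refine ⟨c • a', Submodule.smul_mem _ c ha1, fun l m => ⟨?_, ?_⟩⟩
      · simp only [smul_mul_assoc, trace_smul, (ha2 l m).1, smul_eq_mul]; ring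
      · simp only [smul_mul_assoc, mul_smul_comm, trace_smul, (ha2 l m).2, smul_eq_mul]; ring
  obtain ⟨X', hX'1, hX'2⟩ := htr X hX
  have he' : (e : ℂ) ≠ 0 := Nat.cast_ne_zero.2 he.ne'
  obtain ⟨c, hc⟩ := schur_mat σ X' fun m => by
    rw [← sub_eq_zero]
    refine eq_zero_of_trace σ ⊤ (Submodule.sub_mem _
      ((proj_mat σ).span_mul ⊤ hX'1 (Submodule.subset_span ⟨m, trivial, rfl⟩))
      ((proj_mat σ).span_mul ⊤ (Submodule.subset_span ⟨m, trivial, rfl⟩) hX'1)) fun l _ => ?_
    refine (mul_eq_zero.1 ?_).resolve_left he'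
    rw [sub_mul, trace_sub, mul_sub, ← (hX'2 l m).2, mul_assoc X', ← mat_mul σ, ← (hX'2 (m * l) m).1,
      Subgroup.coe_mul, mat_mul ρ, ← mul_assoc, hcomm m m.2, sub_self]
  refine ⟨c, sub_eq_zero.1 (eq_zero_of_trace ρ N (Submodule.sub_mem _ hX
    (Submodule.smul_mem _ c ((proj_mat ρ).one_mem_span N))) fun l hl => ?_)⟩
  rw [sub_mul, trace_sub, (hX'2 ⟨l, hl⟩ 1).1, hc, smul_mul_assoc, smul_mul_assoc, one_mul, one_mul,
    trace_smul, trace_smul, trace_mat, trace_mat, hrest ⟨l, hl⟩, smul_eq_mul, smul_eq_mul]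
  ring

/-- The matrices of an irreducible representation span everything. -/
theorem span_mat (ρ : Representation ℂ G (Fin n → ℂ)) [ρ.IsIrreducible] :
    Submodule.span ℂ (Set.range (mat ρ)) = ⊤ := by
  classical
  by_contra hne
  obtain ⟨f, hf0, hfle⟩ := Submodule.exists_le_ker_of_lt_top _ (lt_top_iff_ne_top.2 hne)
  let Y : Matrix (Fin n) (Fin n) ℂ := Matrix.of fun i j => f (Matrix.single j i 1)
  have hY : ∀ Z, f Z = (Y * Z).trace := by
    intro Z
    conv_lhs => rw [Matrix.matrix_eq_sum_single Z]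
    simp only [map_sum]
    simp only [trace, diag, Matrix.mul_apply, Y, Matrix.of_apply]
    rw [Finset.sum_comm]
    refine Finset.sum_congr rfl fun i _ => Finset.sum_congr rfl fun j _ => ?_
    rw [show Matrix.single j i (Z j i) = Z j i • Matrix.single j i 1 by rw [Matrix.smul_single]; simp,
      map_smul, smul_eq_mul, mul_comm]
  apply hf0
  have hsum : ∀ a b : Fin n, ∑ g : G, mat ρ g * Matrix.single a b 1 * mat ρ g⁻¹ =
      ((Fintype.card G : ℂ) / n * (if a = b then 1 else 0)) • 1 := by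
    intro a b
    obtain ⟨c, hc⟩ := schur_mat ρ (∑ g : G, mat ρ g * Matrix.single a b 1 * mat ρ g⁻¹) fun h => by
      rw [Finset.sum_mul, Finset.mul_sum]
      refine Fintype.sum_equiv (Equiv.mulLeft h⁻¹) _ _ fun g => ?_
      show _ = mat ρ h * (mat ρ (h⁻¹ * g) * Matrix.single a b 1 * mat ρ (h⁻¹ * g)⁻¹)
      rw [_root_.mul_inv_rev, inv_inv]
      simp only [mat_mul, ← mul_assoc]
      rw [← mat_mul ρ h h⁻¹, mul_inv_cancel, mat_one, one_mul]
    rw [hc]
    congr 1
    have h1 := congrArg Matrix.trace hc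
    rw [trace_sum, trace_smul, trace_one, Fintype.card_fin, smul_eq_mul] at h1
    have h2 : ∀ g, (mat ρ g * Matrix.single a b 1 * mat ρ g⁻¹).trace =
        (Matrix.single a b (1 : ℂ)).trace := fun g => by
      rw [Matrix.trace_mul_cycle, ← mat_mul, inv_mul_cancel, mat_one, one_mul]
    rw [Finset.sum_congr rfl (fun g _ => h2 g), Finset.sum_const, Finset.card_univ, nsmul_eq_mul] at h1
    have hn0 : (n : ℂ) ≠ 0 := by
      have := IsIrrCharacter.apply_one_ne_zero (χ := ρ.character) ⟨n, ρ, inferInstance, rfl⟩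
      rwa [ρ.char_one, Module.finrank_fin_fun] at this
    rw [div_mul_eq_mul_div, eq_div_iff hn0, ← h1]
    congr 1
    by_cases hab : a = b
    · subst hab; simp
    · rw [if_neg hab, Matrix.trace_single_eq_of_ne _ _ _ hab]
  refine LinearMap.ext fun Z => ?_
  have hYg : ∀ g, (Y * mat ρ g).trace = 0 := fun g => by
    rw [← hY]; exact hfle (Submodule.subset_span ⟨g, rfl⟩)
  suffices Y = 0 by rw [hY, this, zero_mul, trace_zero, LinearMap.zero_apply]
  ext j i
  have h3 : ∑ g : G, (Y * mat ρ g).trace * mat ρ g⁻¹ j i = 0 :=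
    Finset.sum_eq_zero fun g _ => by rw [hYg, zero_mul]
  have h4 : ∀ g, (Y * mat ρ g).trace * mat ρ g⁻¹ j i =
      ∑ x : Fin n, ∑ y : Fin n, Y y x * (mat ρ g * Matrix.single y j 1 * mat ρ g⁻¹ : Matrix _ _ ℂ) x i := by
    intro g
    simp only [trace, diag, Matrix.mul_apply, Finset.sum_mul, Matrix.single_apply]
    rw [Finset.sum_comm]
    refine Finset.sum_congr rfl fun x _ => Finset.sum_congr rfl fun y _ => ?_
    simp only [ite_and, mul_ite, mul_one, mul_zero, ite_mul, zero_mul, Finset.sum_ite_eq, Finset.mem_univ, if_true]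
    ring
  rw [Finset.sum_congr rfl (fun g _ => h4 g), Finset.sum_comm] at h3
  have h5 : ∀ x y, ∑ g : G, Y y x * (mat ρ g * Matrix.single y j 1 * mat ρ g⁻¹ : Matrix _ _ ℂ) x i =
      Y y x * ((Fintype.card G : ℂ) / n * (if y = j then 1 else 0) * (if x = i then 1 else 0)) := fun x y => by
    rw [← Finset.mul_sum, ← Matrix.sum_apply, hsum, Matrix.smul_apply, Matrix.one_apply, smul_eq_mul]
  rw [Finset.sum_congr rfl (fun x _ => Finset.sum_comm), Finset.sum_congr rfl (fun x _ =>
    Finset.sum_congr rfl fun y _ => h5 x y)] at h3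
  simp [Finset.sum_ite_eq', Fintype.card_ne_zero] at h3
  rcases h3 with h3 | h3
  · exact h3
  · exact absurd h3 (fun h => by
      have := IsIrrCharacter.apply_one_ne_zero (χ := ρ.character) ⟨n, ρ, inferInstance, rfl⟩
      rw [ρ.char_one, Module.finrank_fin_fun, h] at this
      simp at this)

/-- **Primitive characters of solvable groups.** -/
theorem exists_class_ge [Group.IsSolvable G] {χ : G → ℂ} (hχ : Cfsg.IsIrrCharacter G χ) (hp : PrimChar χ)
    (p : ℕ) [Fact p.Prime] :
    ∃ g : G, (Cfsg.charDegree χ).factorization p ≤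
      ((Subgroup.centralizer ({g} : Set G)).index).factorization p := by
  obtain ⟨n, ρ, hρ, rfl⟩ := hχ
  haveI := hρ
  have hn : n ≠ 0 := by
    rintro rfl
    exact IsIrrCharacter.apply_one_ne_zero (χ := ρ.character) ⟨0, ρ, inferInstance, rfl⟩
      (by rw [ρ.char_one, Module.finrank_fin_fun, Nat.cast_zero])
  haveI : NeZero n := ⟨hn⟩
  have hP := proj_mat ρ
  haveI := hP.kernel_normal
  have hmain := span_le_average p _ (mat ρ) hP (quasi_mat ρ hp) rfl
  rw [span_mat ρ, finrank_top, Module.finrank_matrix, Module.finrank_self, mul_one, Fintype.card_fin,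
    Nat.factorization_mul hn hn, Finsupp.add_apply] at hmain
  have hdeg : Cfsg.charDegree ρ.character = n := by
    rw [Cfsg.charDegree, ρ.char_one, Module.finrank_fin_fun, Complex.natCast_re, Nat.floor_natCast]
  rw [hdeg]
  by_contra hall
  push Not at hall
  have hle : ∀ g : G, ((centMod hP.kernel g).index).factorization p + 1 ≤ n.factorization p := by
    intro g
    refine le_trans ?_ (hall g)
    have hsub : Subgroup.centralizer ({g} : Set G) ≤ centMod hP.kernel g := fun x hx => by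
      rw [Subgroup.mem_centralizer_singleton_iff] at hx
      rw [mem_centMod, ← map_mul, ← map_mul, hx]
    exact Nat.add_le_add_right ((Nat.factorization_le_iff_dvd Subgroup.index_ne_zero_of_finite
      Subgroup.index_ne_zero_of_finite).2 (Subgroup.index_dvd_of_le hsub) p) 1
  have h6 := Finset.sum_le_sum (s := Finset.univ) fun g (_ : g ∈ Finset.univ) => hle g
  rw [Finset.sum_add_distrib, Finset.sum_const, Finset.sum_const, Finset.card_univ, smul_eq_mul,
    smul_eq_mul, mul_one] at h6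
  have := Fintype.card_pos (α := G)
  linarith

end Cfsg.Agent.PrimClass
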