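import Cfsg.Agent.PrimitiveClass.Average

/-!
# Averages of fixed subgroups in solvable irreducible actions, and one layer of class sizes
-/

set_option autoImplicit false
set_option linter.unusedSectionVars false
set_option linter.style.haveILetI false

namespace Cfsg.Agent.PrimClass

open Subgroup

/-- A minimal normal subgroup of a solvable group, with its structure. -/
theorem exists_minimal_normal {Q : Type*} [Group Q] [Finite Q] [Group.IsSolvable Q] [Nontrivial Q] :
    ∃ (N : Subgroup Q) (q : ℕ), q.Prime ∧ N.Normal ∧ N ≠ ⊥ ∧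
      (∀ L : Subgroup Q, L.Normal → L ≤ N → L ≠ ⊥ → L = N) ∧
      (∀ a ∈ N, ∀ b ∈ N, a * b = b * a) ∧ ∀ a ∈ N, a ^ q = 1 := by
  classical
  obtain ⟨N, ⟨hNn, hNb⟩, hmin⟩ := Set.Finite.exists_minimal
    (Set.toFinite {N : Subgroup Q | N.Normal ∧ N ≠ ⊥}) ⟨⊤, inferInstance, top_ne_bot⟩
  haveI := hNn
  have huniq : ∀ L : Subgroup Q, L.Normal → L ≤ N → L ≠ ⊥ → L = N := fun L hL hLN hLb =>
    le_antisymm hLN (hmin ⟨hL, hLb⟩ hLN)
  have hcomm : ⁅N, N⁆ = ⊥ := by
    by_contra hne
    have h1 : ⁅N, N⁆ = N :=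
      huniq _ inferInstance (commutator_le.2 fun a ha b hb =>
        N.mul_mem (N.mul_mem (N.mul_mem ha hb) (N.inv_mem ha)) (N.inv_mem hb)) hne
    obtain ⟨m, hm⟩ := (Group.isSolvable_def Q).1 inferInstance
    have h2 : ∀ i, N ≤ derivedSeries Q i := by
      intro i
      induction i with
      | zero => exact le_top
      | succ i ih => rw [derivedSeries_succ, ← h1]; exact commutator_mono ih ih
    exact hNb (le_bot_iff.1 (hm ▸ h2 m))
  have hab : ∀ a ∈ N, ∀ b ∈ N, a * b = b * a := fun a ha b hb =>
    commutatorElement_eq_one_iff_mul_comm.1 (mem_bot.1 (hcomm ▸ commutator_mem_commutator ha hb))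
  have hN1 : Nat.card N ≠ 1 := fun h => hNb (card_eq_one.1 h)
  obtain ⟨q, hq, hqN⟩ := Nat.exists_prime_and_dvd hN1
  haveI := Fact.mk hq
  obtain ⟨x, hx⟩ := exists_prime_orderOf_dvd_card' q hqN
  let L : Subgroup Q :=
    { carrier := {y | y ∈ N ∧ y ^ q = 1}
      mul_mem' := fun {a b} ha hb => ⟨N.mul_mem ha.1 hb.1, by
        rw [(show Commute a b from hab a ha.1 b hb.1).mul_pow, ha.2, hb.2, one_mul]⟩
      one_mem' := ⟨N.one_mem, one_pow q⟩
      inv_mem' := fun {a} ha => ⟨N.inv_mem ha.1, by rw [inv_pow, ha.2, inv_one]⟩ }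
  have hL : L = N := by
    refine huniq L ⟨fun y hy g => ⟨hNn.conj_mem y hy.1 g, by rw [conj_pow, hy.2, mul_one, mul_inv_cancel]⟩⟩
      (fun y hy => hy.1) fun hb => ?_
    have h1 : (x : Q) ∈ L := ⟨x.2, by rw [← SubgroupClass.coe_pow, ← hx, pow_orderOf_eq_one]; rfl⟩
    rw [hb, mem_bot] at h1
    have h2 : orderOf x = 1 := orderOf_eq_one_iff.2 (Subtype.ext h1)
    exact hq.ne_one (hx.symm.trans h2)
  exact ⟨N, q, hq, hNn, hNb, huniq, hab, fun a ha => (hL.ge ha).2⟩

variable {E : Type*} [CommGroup E] [Finite E]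

/-- **Half on average.** In a solvable irreducible nontrivial action on an elementary abelian group the
fixed subgroups have on average at most half the exponent. -/
theorem group_average (p : ℕ) [Fact p.Prime] (hE : IsPGroup p E) (H : Subgroup (MulAut E))
    [Group.IsSolvable H] [Fintype H] (hne : H ≠ ⊥)
    (hirr : ∀ U : Subgroup E, (∀ a ∈ H, ∀ u ∈ U, a u ∈ U) → U = ⊥ ∨ U = ⊤) :
    2 * ∑ g : H, vp p (fix {(g : MulAut E)}) ≤ Fintype.card H * vp p E := by
  classical
  haveI : Nontrivial H := (nontrivial_iff_ne_bot H).2 hne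
  obtain ⟨N, q, hq, hNn, hNb, -, hab, hexp⟩ := exists_minimal_normal (Q := H)
  haveI := Fact.mk hq
  set A := N.map H.subtype with hA
  have hAab : ∀ a ∈ A, ∀ b ∈ A, a * b = b * a := by
    rintro _ ⟨a, ha, rfl⟩ _ ⟨b, hb, rfl⟩
    exact congrArg Subtype.val (hab a ha b hb)
  have hAexp : ∀ a ∈ A, a ^ q = 1 := by
    rintro _ ⟨a, ha, rfl⟩
    exact congrArg Subtype.val (hexp a ha)
  have hAH : A ≤ H := map_subtype_le N
  have hAn : ∀ g ∈ H, ∀ a, g * a * g⁻¹ ∈ A ↔ a ∈ A := by
    have h1 : ∀ g ∈ H, ∀ a ∈ A, g * a * g⁻¹ ∈ A := by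
      rintro g hg _ ⟨a, ha, rfl⟩
      exact ⟨⟨g, hg⟩ * a * ⟨g, hg⟩⁻¹, hNn.conj_mem a ha _, rfl⟩
    intro g hg a
    refine ⟨fun h => ?_, h1 g hg a⟩
    simpa [mul_assoc] using h1 g⁻¹ (H.inv_mem hg) _ h
  have hAb : A ≠ ⊥ := by rwa [hA, Ne, map_eq_bot_iff_of_injective _ H.subtype_injective]
  have hinv : ∀ a ∈ H, ∀ u ∈ fix (A : Set (MulAut E)), a u ∈ fix (A : Set (MulAut E)) := by
    intro g hg u hu a ha
    have h1 := hu _ ((hAn g⁻¹ (H.inv_mem hg) a).2 ha)
    rw [inv_inv] at h1
    change g⁻¹ (a (g u)) = u at h1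
    conv_rhs => rw [← h1]
    rw [MulAut.apply_inv_self]
  have hfix : fix (A : Set (MulAut E)) = ⊥ := by
    refine (hirr _ hinv).resolve_right fun htop => hAb ((eq_bot_iff_forall _).2 fun a ha => ?_)
    exact MulEquiv.ext fun u => (htop ▸ mem_top u : u ∈ fix (A : Set (MulAut E))) a ha
  have hne' : Nontrivial E := by
    by_contra h
    rw [not_nontrivial_iff_subsingleton] at h
    exact hne ((eq_bot_iff_forall _).2 fun a _ => MulEquiv.ext fun u => Subsingleton.elim _ _)
  have hqp : q ≠ p := by
    rintro rfl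
    have hApg : IsPGroup q A := fun a => ⟨1, Subtype.ext (by
      rw [pow_one, SubgroupClass.coe_pow]; exact hAexp _ a.2)⟩
    obtain ⟨n, hn⟩ := IsPGroup.iff_card.1 hE
    have hn0 : n ≠ 0 := by
      rintro rfl
      rw [pow_zero] at hn
      exact not_subsingleton E (Nat.card_eq_one_iff_unique.1 hn).1
    letI : MulAction A E := MulAction.compHom E A.subtype
    have h1 := hApg.exists_fixed_point_of_prime_dvd_card_of_fixed_point E (hn ▸ dvd_pow_self q hn0)
      (a := (1 : E)) (fun a => map_one (a : MulAut E))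
    obtain ⟨b, hb, hb1⟩ := h1
    have : b ∈ fix (A : Set (MulAut E)) := fun a ha => hb ⟨a, ha⟩
    rw [hfix, mem_bot] at this
    exact hb1 this.symm
  obtain ⟨n, hn⟩ := IsPGroup.iff_card.1 hE
  have hcop : (Nat.card E).Coprime q :=
    hn ▸ (((Nat.coprime_primes (Fact.out : p.Prime) hq).2 hqp.symm).pow_left n)
  letI := Fintype.ofFinite A
  have hper : ∀ g : H, 2 * ∑ a : A, vp p (fix {(g : MulAut E) * (a : MulAut E)}) ≤
      Fintype.card A * vp p E := fun g =>
    coset_average p q hcop A hAab hAexp hfix g (hAn g g.2)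
  have hsum : ∀ a : A, ∑ g : H, vp p (fix {(g : MulAut E) * (a : MulAut E)}) =
      ∑ g : H, vp p (fix {(g : MulAut E)}) := fun a =>
    Fintype.sum_equiv (Equiv.mulRight (⟨a, hAH a.2⟩ : H)) _ _ fun g => rfl
  have htot := Finset.sum_le_sum (s := Finset.univ) fun g (_ : g ∈ Finset.univ) => hper g
  rw [← Finset.mul_sum, Finset.sum_comm, Finset.sum_congr rfl (fun a _ => hsum a), Finset.sum_const,
    Finset.sum_const, Finset.card_univ, Finset.card_univ, smul_eq_mul, smul_eq_mul] at htot
  refine Nat.le_of_mul_le_mul_left ?_ (Fintype.card_pos (α := A))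
  linarith

section Layer

variable {G : Type*} [Group G] [Finite G]

/-- the centraliser of `g` modulo `S` -/
def centMod (S : Subgroup G) [S.Normal] (g : G) : Subgroup G :=
  (centralizer {QuotientGroup.mk' S g}).comap (QuotientGroup.mk' S)

theorem mem_centMod {S : Subgroup G} [S.Normal] {g x : G} :
    x ∈ centMod S g ↔ QuotientGroup.mk' S g * QuotientGroup.mk' S x = QuotientGroup.mk' S x * QuotientGroup.mk' S g := by
  rw [centMod, mem_comap, mem_centralizer_singleton_iff]
  exact eq_comm

/-- The action of `G` on a normal subgroup of `G ⧸ S`. -/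
noncomputable def act {S : Subgroup G} [S.Normal] (N : Subgroup (G ⧸ S)) [N.Normal] : G →* MulAut N :=
  (MulAut.conjNormal (H := N)).comp (QuotientGroup.mk' S)

/-- one layer -/
theorem layer (p q : ℕ) [Fact p.Prime] [Group.IsSolvable G] (hq : q.Prime) (S S' : Subgroup G) [S.Normal]
    [S'.Normal] (N : Subgroup (G ⧸ S)) [hN : N.Normal]
    (hmin : ∀ L : Subgroup (G ⧸ S), L.Normal → L ≤ N → L ≠ ⊥ → L = N)
    (hab : ∀ a ∈ N, ∀ b ∈ N, a * b = b * a) (hexp : ∀ a ∈ N, a ^ q = 1)
    (hnc : ¬ N ≤ center (G ⧸ S)) (hNS' : N.comap (QuotientGroup.mk' S) ≤ S') [Fintype G] :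
    2 * ∑ g : G, ((centMod S' g).index).factorization p + Fintype.card G * vp p N ≤
      2 * ∑ g : G, ((centMod S g).index).factorization p := by
  classical
  set π := QuotientGroup.mk' S with hπ
  letI : CommGroup N := { (inferInstance : Group N) with mul_comm := fun a b => Subtype.ext (hab a a.2 b b.2) }
  set φ : G →* MulAut N := act N with hφ
  have hφv : ∀ (g : G) (x : N), ((φ g x : N) : G ⧸ S) = π g * x * (π g)⁻¹ := fun g x =>
    MulAut.conjNormal_apply _ _
  have hvp : 2 * ∑ g : G, vp p (fix {φ g}) ≤ Fintype.card G * vp p N := by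
    by_cases hqp : q = p
    swap
    · have h0 : ∀ (U : Subgroup N), vp p U = 0 := by
        intro U
        have hU : IsPGroup q U := fun u => ⟨1, Subtype.ext (Subtype.ext (by
          simpa using hexp _ (u : N).2))⟩
        haveI := Fact.mk hq
        obtain ⟨n, hn⟩ := IsPGroup.iff_card.1 hU
        rw [vp, hn, hq.factorization_pow, Finsupp.single_apply, if_neg hqp]
      rw [Finset.sum_congr rfl (fun g _ => h0 _), Finset.sum_const_zero, mul_zero]
      exact Nat.zero_le _
    subst hqp
    have hN' : IsPGroup q N := fun u => ⟨1, Subtype.ext (by simpa using hexp _ u.2)⟩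
    letI := Fintype.ofFinite φ.range
    have hne : φ.range ≠ ⊥ := by
      intro hb
      apply hnc
      intro x hx
      rw [mem_center_iff]
      intro y
      obtain ⟨g, rfl⟩ := QuotientGroup.mk'_surjective S y
      have h1 : φ g = 1 := mem_bot.1 (hb ▸ ⟨g, rfl⟩)
      have h2 := hφv g ⟨x, hx⟩
      rw [h1] at h2
      exact (eq_mul_inv_iff_mul_eq.1 h2).symm
    have hirr : ∀ U : Subgroup N, (∀ a ∈ φ.range, ∀ u ∈ U, a u ∈ U) → U = ⊥ ∨ U = ⊤ := by
      intro U hU
      by_cases hUb : U = ⊥
      · exact Or.inl hUb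
      right
      have h1 : U.map N.subtype = N := by
        refine hmin _ ⟨?_⟩ (map_subtype_le U) (by
          rwa [Ne, map_eq_bot_iff_of_injective _ N.subtype_injective])
        rintro _ ⟨u, hu, rfl⟩ y
        obtain ⟨g, rfl⟩ := QuotientGroup.mk'_surjective S y
        exact ⟨φ g u, hU _ ⟨g, rfl⟩ u hu, hφv g u⟩
      refine eq_top_iff.2 fun u _ => ?_
      obtain ⟨u', hu', he⟩ := h1.ge u.2
      rwa [show u = u' from (Subtype.ext he).symm]
    haveI : Group.IsSolvable φ.range := Group.isSolvable_of_surjective φ.rangeRestrict_surjective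
    have h := group_average q hN' φ.range hne hirr
    have hfib : ∀ y : φ.range, (Finset.univ.filter fun g : G => φ.rangeRestrict g = y).card =
        Nat.card φ.ker := by
      intro y
      obtain ⟨g₀, rfl⟩ := φ.rangeRestrict_surjective y
      rw [← Fintype.card_subtype, ← Nat.card_eq_fintype_card]
      refine Nat.card_congr
        { toFun := fun a => ⟨g₀⁻¹ * a.1, by
            have := congrArg Subtype.val a.2
            simp only [MonoidHom.coe_rangeRestrict] at this
            rw [MonoidHom.mem_ker, map_mul, map_inv, this, inv_mul_cancel]⟩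
          invFun := fun k => ⟨g₀ * k.1, Subtype.ext (by
            show φ (g₀ * k.1) = φ g₀
            rw [map_mul, MonoidHom.mem_ker.1 k.2, mul_one])⟩
          left_inv := fun a => Subtype.ext (mul_inv_cancel_left _ _)
          right_inv := fun k => Subtype.ext (inv_mul_cancel_left _ _) }
    have hsum : ∑ g : G, vp q (fix {φ g}) = Nat.card φ.ker * ∑ y : φ.range, vp q (fix {(y : MulAut N)}) := by
      rw [← Finset.sum_fiberwise (s := Finset.univ) (g := φ.rangeRestrict)
        (f := fun g : G => vp q (fix {φ g})), Finset.mul_sum]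
      refine Finset.sum_congr rfl fun y _ => ?_
      rw [Finset.sum_congr rfl (fun g hg => by rw [← (Finset.mem_filter.1 hg).2]; rfl :
        ∀ g ∈ Finset.univ.filter (fun g : G => φ.rangeRestrict g = y),
          vp q (fix {φ g}) = vp q (fix {(y : MulAut N)})), Finset.sum_const, smul_eq_mul, hfib]
    have hcard : Fintype.card G = Nat.card φ.ker * Fintype.card φ.range := by
      rw [← Nat.card_eq_fintype_card, ← Nat.card_eq_fintype_card, φ.ker.card_eq_card_quotient_mul_card_subgroup,
        Nat.card_congr (QuotientGroup.quotientKerEquivRange φ).toEquiv, mul_comm]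
    rw [hsum, hcard, mul_left_comm, mul_assoc]
    exact Nat.mul_le_mul_left _ h
  have hstep : ∀ g : G, ((centMod S' g).index).factorization p + vp p N ≤
      ((centMod S g).index).factorization p + vp p (fix {φ g}) := by
    intro g
    set D := centMod S g with hD
    set M := N.comap π with hM
    haveI : M.Normal := hN.comap π
    have hle : D ⊔ M ≤ centMod S' g := by
      refine sup_le (fun x hx => ?_) fun x hx => mem_centMod.2 ?_
      · rw [hD, mem_centMod, ← map_mul, ← map_mul] at hx
        rw [mem_centMod, ← map_mul, ← map_mul, QuotientGroup.mk'_eq_mk']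
        obtain ⟨z, hz, hze⟩ := (QuotientGroup.mk'_eq_mk' S).1 hx
        refine ⟨z, hNS' ?_, hze⟩
        rw [mem_comap, show π z = 1 from (QuotientGroup.eq_one_iff z).2 hz]
        exact N.one_mem
      · rw [show QuotientGroup.mk' S' x = 1 from (QuotientGroup.eq_one_iff x).2 (hNS' hx), mul_one, one_mul]
    have hrel : D.relIndex (D ⊔ M) = D.relIndex M := by
      have e1 := relIndex_mul_relIndex (D ⊓ M) D (D ⊔ M) inf_le_left le_sup_left
      have e2 := relIndex_mul_relIndex (D ⊓ M) M (D ⊔ M) inf_le_right le_sup_right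
      rw [inf_relIndex_left] at e1
      rw [inf_relIndex_right, relIndex_sup_right, mul_comm] at e2
      rw [← e2] at e1
      exact Nat.eq_of_mul_eq_mul_left
        (Nat.pos_of_ne_zero index_ne_zero_of_finite) e1
    have hidx : D.index = D.relIndex M * (D ⊔ M).index := by
      rw [← hrel, relIndex_mul_index le_sup_left]
    have hfix : D.relIndex M * Nat.card (fix {φ g}) = Nat.card N := by
      rw [hD, centMod, relIndex_comap,
        map_comap_eq_self_of_surjective (QuotientGroup.mk'_surjective S)]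
      have heq : (centralizer {π g}).subgroupOf N = fix {φ g} := by
        ext x
        rw [mem_subgroupOf, mem_centralizer_singleton_iff, mem_fix]
        constructor
        · rintro h a rfl
          exact Subtype.ext (by rw [hφv, ← h, mul_inv_cancel_right])
        · intro h
          have h1 := congrArg Subtype.val (h _ rfl)
          rw [hφv, mul_inv_eq_iff_eq_mul] at h1
          exact h1.symm
      show ((centralizer {π g}).subgroupOf N).index * _ = _
      rw [heq, mul_comm, card_mul_index]
    have hd : (centMod S' g).index ∣ (D ⊔ M).index := index_dvd_of_le hle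
    have h1 := (Nat.factorization_le_iff_dvd index_ne_zero_of_finite index_ne_zero_of_finite).2 hd p
    have hr0 : D.relIndex M ≠ 0 := fun h => by
      rw [h, zero_mul] at hfix; exact Nat.card_pos.ne' hfix.symm
    have h2 : vp p N = (D.relIndex M).factorization p + vp p (fix {φ g}) := by
      rw [vp, ← hfix, Nat.factorization_mul hr0 Nat.card_pos.ne', Finsupp.add_apply, vp]
    rw [h2, hidx, Nat.factorization_mul hr0 index_ne_zero_of_finite, Finsupp.add_apply]
    omega
  have htot := Finset.sum_le_sum (s := Finset.univ) fun g (_ : g ∈ Finset.univ) => hstep g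
  rw [Finset.sum_add_distrib, Finset.sum_add_distrib, Finset.sum_const, Finset.card_univ, smul_eq_mul] at htot
  omega

end Layer

end Cfsg.Agent.PrimClass
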