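import Cfsg.Agent.PrimitiveClass.Step

/-!
# Span dimension against class sizes
-/

set_option autoImplicit false
set_option linter.unusedSectionVars false
set_option linter.style.haveILetI false

namespace Cfsg.Agent.PrimClass

variable {G : Type*} [Group G] [Finite G] {n : ℕ} [NeZero n]

/-- For a quasiprimitive projective matrix group of a solvable group the `p`-exponent of the dimension of
the span is at most twice the average `p`-exponent of the centraliser indices modulo scalars. -/
theorem span_le_average [Fintype G] [Group.IsSolvable G] (p : ℕ) [Fact p.Prime] :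
    ∀ (m : ℕ) (P : G → Matrix (Fin n) (Fin n) ℂ) (hP : Proj P) [hP.kernel.Normal], Quasi P →
      hP.kernel.index = m →
      Fintype.card G * (Module.finrank ℂ (Submodule.span ℂ (Set.range P))).factorization p ≤
        2 * ∑ g : G, ((centMod hP.kernel g).index).factorization p := by
  intro m
  induction m using Nat.strong_induction_on with
  | _ m ih =>
    intro P hP hn hQ hm
    set S := hP.kernel with hS
    by_cases htop : S = ⊤
    · have : Submodule.span ℂ (Set.range P) = Submodule.span ℂ {(1 : Matrix (Fin n) (Fin n) ℂ)} := by
        refine le_antisymm ?_ ?_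
        · rw [Submodule.span_le]
          rintro _ ⟨g, rfl⟩
          obtain ⟨c, hc⟩ : IsScal (P g) := hP.mem_kernel.1 (htop ▸ Subgroup.mem_top g : g ∈ S)
          exact hc ▸ Submodule.smul_mem _ c (Submodule.subset_span rfl)
        · rw [Submodule.span_singleton_le_iff_mem]
          have := hP.one_mem_span ⊤
          rwa [Subgroup.coe_top, Set.image_univ] at this
      rw [this, finrank_span_singleton (K := ℂ) one_ne_zero]
      simp
    haveI : Nontrivial (G ⧸ S) := QuotientGroup.nontrivial_iff.2 htop
    obtain ⟨N, q, hq, hNn, hNb, hmin, hab, hexp⟩ := exists_minimal_normal (Q := G ⧸ S)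
    haveI := hNn
    obtain ⟨hnc, P', hP', hQ', hle, hrank⟩ := exists_step hP hQ N hmin hab hNb
    haveI hn' := hP'.kernel_normal
    have hlt : S < hP'.kernel := by
      refine lt_of_lt_of_le (lt_of_le_of_ne (fun x hx => ?_) fun e => hNb ?_) hle
      · rw [Subgroup.mem_comap, show QuotientGroup.mk' S x = 1 from (QuotientGroup.eq_one_iff x).2 hx]
        exact N.one_mem
      · rw [← Subgroup.map_comap_eq_self_of_surjective (QuotientGroup.mk'_surjective S) N, ← e,
          QuotientGroup.map_mk'_self]
    have hidx : hP'.kernel.index < m := by
      rw [← hm]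
      have h1 := S.card_mul_index
      have h2 := hP'.kernel.card_mul_index
      have h3 : Nat.card S < Nat.card hP'.kernel := Set.Finite.card_lt_card (Set.toFinite _) hlt
      have h4 : 0 < hP'.kernel.index := Nat.pos_of_ne_zero Subgroup.index_ne_zero_of_finite
      by_contra hc
      push Not at hc
      nlinarith [Nat.card_pos (α := S)]
    have hrec := ih _ hidx P' hP' hQ' rfl
    have hlay := layer p q hq S hP'.kernel N hmin hab hexp hnc hle
    have hd : Module.finrank ℂ (Submodule.span ℂ (Set.range P')) ≠ 0 := by
      intro h0
      rw [Submodule.finrank_eq_zero, Submodule.span_eq_bot] at h0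
      exact (hP'.unit 1).ne_zero (h0 _ ⟨1, rfl⟩)
    rw [hrank, Nat.factorization_mul Nat.card_pos.ne' hd, Finsupp.add_apply, mul_add]
    unfold vp at hlay
    exact le_trans (le_of_eq (add_comm _ _)) ((Nat.add_le_add_right hrec _).trans hlay)

end Cfsg.Agent.PrimClass
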