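import Cfsg.Agent.PrimitiveClass.Layer
import Mathlib.Analysis.Complex.Basic

/-!
# Quasiprimitive projective matrix groups: span dimensions against class sizes
-/

set_option autoImplicit false
set_option linter.unusedSectionVars false
set_option linter.style.haveILetI false

namespace Cfsg.Agent.PrimClass

open scoped Classical

variable {G : Type*} [Group G] [Finite G] {n : ℕ}

/-- scalar matrices -/
def IsScal (X : Matrix (Fin n) (Fin n) ℂ) : Prop := ∃ c : ℂ, X = c • 1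

/-- a projective representation by invertible matrices -/
structure Proj (P : G → Matrix (Fin n) (Fin n) ℂ) : Prop where
  unit : ∀ g, IsUnit (P g)
  mul : ∀ g h, ∃ c : ℂ, c ≠ 0 ∧ P (g * h) = c • (P g * P h)

/-- every normal subgroup acts homogeneously -/
def Quasi (P : G → Matrix (Fin n) (Fin n) ℂ) : Prop :=
  ∀ N : Subgroup G, N.Normal → ∀ X ∈ Submodule.span ℂ (P '' (N : Set G)),
    (∀ m ∈ N, X * P m = P m * X) → IsScal X

theorem ne_zero_of_isUnit [NeZero n] {X : Matrix (Fin n) (Fin n) ℂ} (h : IsUnit X) : X ≠ 0 := h.ne_zero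

theorem scal_eq [NeZero n] {X : Matrix (Fin n) (Fin n) ℂ} (hX : IsUnit X) {a b : ℂ} (h : a • X = b • X) :
    a = b := by
  by_contra hne
  have : (a - b) • X = 0 := by rw [sub_smul, h, sub_self]
  rcases smul_eq_zero.1 this with h1 | h1
  · exact hne (sub_eq_zero.1 h1)
  · exact ne_zero_of_isUnit hX h1

variable [NeZero n] {P : G → Matrix (Fin n) (Fin n) ℂ}

theorem Proj.one (hP : Proj P) : ∃ c : ℂ, c ≠ 0 ∧ P 1 = c • 1 := by
  obtain ⟨c, hc, h⟩ := hP.mul 1 1
  rw [mul_one] at h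
  refine ⟨c⁻¹, inv_ne_zero hc, ?_⟩
  obtain ⟨u, hu⟩ := hP.unit 1
  rw [← hu] at h ⊢
  have h2 : (1 : Matrix (Fin n) (Fin n) ℂ) = c • (u : Matrix (Fin n) (Fin n) ℂ) := by
    have h3 := congrArg (fun X => ((u⁻¹ : (Matrix (Fin n) (Fin n) ℂ)ˣ) : Matrix (Fin n) (Fin n) ℂ) * X) h
    simpa [← mul_assoc, mul_smul_comm] using h3
  rw [h2, smul_smul, inv_mul_cancel₀ hc, one_smul]

theorem Proj.scal_ne (hP : Proj P) {g : G} {c : ℂ} (h : P g = c • 1) : c ≠ 0 := fun hc =>
  ne_zero_of_isUnit (hP.unit g) (by rw [h, hc, zero_smul])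

/-- the scalar kernel -/
def Proj.kernel (hP : Proj P) : Subgroup G where
  carrier := {g | IsScal (P g)}
  mul_mem' := by
    rintro a b ⟨x, hx⟩ ⟨y, hy⟩
    obtain ⟨c, -, h⟩ := hP.mul a b
    exact ⟨c * x * y, by rw [h, hx, hy, smul_mul_assoc, one_mul, smul_smul, smul_smul]⟩
  one_mem' := let ⟨c, _, h⟩ := hP.one; ⟨c, h⟩
  inv_mem' := by
    rintro a ⟨x, hx⟩
    obtain ⟨c, hc, h⟩ := hP.mul a a⁻¹
    obtain ⟨d, hd, h1⟩ := hP.one
    rw [mul_inv_cancel, h1, hx, smul_mul_assoc, one_mul, smul_smul] at h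
    have hcx : c * x ≠ 0 := mul_ne_zero hc (hP.scal_ne hx)
    exact ⟨(c * x)⁻¹ * d, by rw [← smul_smul, h, smul_smul, inv_mul_cancel₀ hcx, one_smul]⟩

theorem Proj.mem_kernel (hP : Proj P) {g : G} : g ∈ hP.kernel ↔ IsScal (P g) := Iff.rfl

theorem Proj.kernel_normal (hP : Proj P) : hP.kernel.Normal := ⟨by
  rintro a ⟨x, hx⟩ g
  obtain ⟨c, -, h⟩ := hP.mul (g * a) g⁻¹
  obtain ⟨d, -, h1⟩ := hP.mul g a
  obtain ⟨e, he, h2⟩ := hP.mul g g⁻¹
  obtain ⟨f, -, h3⟩ := hP.one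
  rw [mul_inv_cancel, h3] at h2
  refine ⟨c * (d * x * (e⁻¹ * f)), ?_⟩
  have h4 : P g * P g⁻¹ = (e⁻¹ * f) • 1 := by
    rw [← smul_smul, h2, smul_smul, inv_mul_cancel₀ he, one_smul]
  rw [h, h1, hx]
  simp only [smul_mul_assoc, mul_smul_comm, mul_one, smul_smul, h4]⟩

/-- equal cosets of the kernel give proportional matrices -/
theorem Proj.prop (hP : Proj P) [hP.kernel.Normal] {g h : G}
    (e : QuotientGroup.mk' hP.kernel g = QuotientGroup.mk' hP.kernel h) :
    ∃ c : ℂ, c ≠ 0 ∧ P h = c • P g := by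
  obtain ⟨z, hz, hze⟩ := (QuotientGroup.mk'_eq_mk' _).1 e
  obtain ⟨x, hx⟩ := hz
  obtain ⟨c, hc, h1⟩ := hP.mul g z
  refine ⟨c * x, mul_ne_zero hc (hP.scal_ne hx), ?_⟩
  rw [← hze, h1, hx, mul_smul_comm, mul_one, smul_smul]

theorem Proj.span_mul (hP : Proj P) (N : Subgroup G) {X Y : Matrix (Fin n) (Fin n) ℂ}
    (hX : X ∈ Submodule.span ℂ (P '' (N : Set G))) (hY : Y ∈ Submodule.span ℂ (P '' (N : Set G))) :
    X * Y ∈ Submodule.span ℂ (P '' (N : Set G)) := by
  induction hX using Submodule.span_induction with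
  | mem x hx =>
    obtain ⟨a, ha, rfl⟩ := hx
    induction hY using Submodule.span_induction with
    | mem y hy =>
      obtain ⟨b, hb, rfl⟩ := hy
      obtain ⟨c, hc, h⟩ := hP.mul a b
      have : P a * P b = c⁻¹ • P (a * b) := by rw [h, smul_smul, inv_mul_cancel₀ hc, one_smul]
      rw [this]
      exact Submodule.smul_mem _ _ (Submodule.subset_span ⟨a * b, N.mul_mem ha hb, rfl⟩)
    | zero => simp
    | add y z _ _ hy hz => rw [mul_add]; exact add_mem hy hz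
    | smul t y _ hy => rw [mul_smul_comm]; exact Submodule.smul_mem _ t hy
  | zero => simp
  | add y z _ _ hy hz => rw [add_mul]; exact add_mem hy hz
  | smul t y _ hy => rw [smul_mul_assoc]; exact Submodule.smul_mem _ t hy

theorem Proj.one_mem_span (hP : Proj P) (N : Subgroup G) :
    (1 : Matrix (Fin n) (Fin n) ℂ) ∈ Submodule.span ℂ (P '' (N : Set G)) := by
  obtain ⟨c, hc, h⟩ := hP.one
  have : (1 : Matrix (Fin n) (Fin n) ℂ) = c⁻¹ • P 1 := by rw [h, smul_smul, inv_mul_cancel₀ hc, one_smul]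
  rw [this]
  exact Submodule.smul_mem _ _ (Submodule.subset_span ⟨1, N.one_mem, rfl⟩)

end Cfsg.Agent.PrimClass
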