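import Cfsg.Agent.PrimitiveClass.Recursion
import Mathlib.LinearAlgebra.Matrix.NonsingularInverse
import Mathlib.LinearAlgebra.Dimension.Constructions

/-!
# Splitting off the bottom chief layer of a quasiprimitive projective matrix group
-/

set_option autoImplicit false
set_option linter.unusedSectionVars false
set_option linter.style.haveILetI false

namespace Cfsg.Agent.PrimClass

open scoped Classical

variable {G : Type*} [Group G] [Finite G] {n : ℕ} [NeZero n] {P : G → Matrix (Fin n) (Fin n) ℂ}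

local notation "Mat" => Matrix (Fin n) (Fin n) ℂ

theorem unit_smul {X : Mat} (hX : IsUnit X) {c : ℂ} (hc : c ≠ 0) : IsUnit (c • X) := by
  obtain ⟨u, rfl⟩ := hX
  refine ⟨⟨c • (u : Mat), c⁻¹ • ((u⁻¹ : Matˣ) : Mat), ?_, ?_⟩, rfl⟩
  · rw [smul_mul_smul_comm, mul_inv_cancel₀ hc, one_smul, Units.mul_inv]
  · rw [smul_mul_smul_comm, inv_mul_cancel₀ hc, one_smul, Units.inv_mul]

set_option maxHeartbeats 1600000 in
/-- one step down -/
theorem exists_step (hP : Proj P) (hQ : Quasi P) [hSn : hP.kernel.Normal] (N : Subgroup (G ⧸ hP.kernel))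
    [hNn : N.Normal] (hmin : ∀ L : Subgroup (G ⧸ hP.kernel), L.Normal → L ≤ N → L ≠ ⊥ → L = N)
    (hab : ∀ a ∈ N, ∀ b ∈ N, a * b = b * a) (hNb : N ≠ ⊥) :
    (¬ N ≤ Subgroup.center (G ⧸ hP.kernel)) ∧
    ∃ (P' : G → Mat) (hP' : Proj P'), Quasi P' ∧ N.comap (QuotientGroup.mk' hP.kernel) ≤ hP'.kernel ∧
      Module.finrank ℂ (Submodule.span ℂ (Set.range P)) =
        Nat.card N * Module.finrank ℂ (Submodule.span ℂ (Set.range P')) := by
  set S := hP.kernel with hS
  set π := QuotientGroup.mk' S with hπ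
  have hπs := QuotientGroup.mk'_surjective S
  set M := N.comap π with hMdef
  haveI hMn : M.Normal := hNn.comap π
  letI := Fintype.ofFinite N
  letI : CommGroup N := { (inferInstance : Group N) with mul_comm := fun a b => Subtype.ext (hab a a.2 b b.2) }
  have hout : ∀ t : N, π (Quotient.out (t : G ⧸ S)) = t := fun t => QuotientGroup.out_eq' _
  let f : N → Mat := fun t => P (Quotient.out (t : G ⧸ S))
  have fM : ∀ t : N, Quotient.out (t : G ⧸ S) ∈ M := fun t => by
    rw [hMdef, Subgroup.mem_comap, hout]; exact t.2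
  have funit : ∀ t, IsUnit (f t) := fun t => hP.unit _
  choose fu hfu using funit
  have Pf : ∀ (g : G) (t : N), π g = t → ∃ c : ℂ, c ≠ 0 ∧ P g = c • f t := fun g t h =>
    hP.prop (g := Quotient.out (t : G ⧸ S)) (h := g) ((hout t).trans h.symm)
  have fmul : ∀ s t : N, ∃ c : ℂ, c ≠ 0 ∧ f s * f t = c • f (s * t) := by
    intro s t
    obtain ⟨c, hc, h⟩ := hP.mul (Quotient.out (s : G ⧸ S)) (Quotient.out (t : G ⧸ S))
    obtain ⟨d, hd, h'⟩ := Pf (Quotient.out (s : G ⧸ S) * Quotient.out (t : G ⧸ S)) (s * t)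
      (by rw [map_mul, hout, hout]; rfl)
    refine ⟨c⁻¹ * d, mul_ne_zero (inv_ne_zero hc) hd, ?_⟩
    rw [← smul_smul, ← h', h, smul_smul, inv_mul_cancel₀ hc, one_smul]
  have fone : ∃ c : ℂ, c ≠ 0 ∧ f 1 = c • 1 := by
    obtain ⟨c, hc, h⟩ := hP.one
    obtain ⟨d, hd, h'⟩ := Pf 1 1 (by rw [map_one]; rfl)
    refine ⟨d⁻¹ * c, mul_ne_zero (inv_ne_zero hd) hc, ?_⟩
    rw [← smul_smul, ← h, h', smul_smul, inv_mul_cancel₀ hd, one_smul]
  -- commutation pairing
  have hpair : ∀ s t : N, ∃ w : ℂ, w ≠ 0 ∧ f s * f t = w • (f t * f s) := by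
    intro s t
    obtain ⟨c, hc, h⟩ := fmul s t
    obtain ⟨d, hd, h'⟩ := fmul t s
    refine ⟨c * d⁻¹, mul_ne_zero hc (inv_ne_zero hd), ?_⟩
    rw [h, h', mul_comm t s, smul_smul, mul_assoc, inv_mul_cancel₀ hd, mul_one]
  choose ω hω0 hω using hpair
  have funit' : ∀ s t : N, IsUnit (f s * f t) := fun s t => (hP.unit _).mul (hP.unit _)
  have ωswap : ∀ s t, ω s t * ω t s = 1 := by
    intro s t
    refine scal_eq (funit' s t) (a := ω s t * ω t s) (b := 1) ?_
    rw [one_smul]
    conv_rhs => rw [hω s t, hω t s]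
    rw [smul_smul]
  have ωleft : ∀ s s' t, ω (s * s') t = ω s t * ω s' t := by
    intro s s' t
    obtain ⟨c, hc, h⟩ := fmul s s'
    refine scal_eq (funit' t (s * s')) ?_
    rw [← hω]
    have h1 : f (s * s') = c⁻¹ • (f s * f s') := by rw [h, smul_smul, inv_mul_cancel₀ hc, one_smul]
    rw [h1, smul_mul_assoc, mul_assoc, hω s' t, mul_smul_comm, ← mul_assoc, hω s t, smul_mul_assoc,
      mul_smul_comm, smul_smul, smul_smul, smul_smul, mul_assoc]
    rw [← mul_assoc (f t) (f s) (f s')]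
    congr 1
    ring
  have ωright : ∀ s t t', ω s (t * t') = ω s t * ω s t' := by
    intro s t t'
    have e : ∀ a b, ω a b = (ω b a)⁻¹ := fun a b => eq_inv_of_mul_eq_one_left (ωswap a b)
    rw [e, ωleft, mul_inv, ← e, ← e]
  -- the radical is trivial
  have hnd : ∀ t : N, t ≠ 1 → ∃ u, ω u t ≠ 1 := by
    intro t ht
    by_contra hall
    push Not at hall
    have hcomm : ∀ u, f u * f t = f t * f u := fun u => by rw [hω u t, hall u, one_smul]
    let R : Subgroup G :=
      { carrier := {x | x ∈ M ∧ ∀ y ∈ M, P x * P y = P y * P x}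
        mul_mem' := fun {a b} ha hb => ⟨M.mul_mem ha.1 hb.1, fun y hy => by
          obtain ⟨c, -, h⟩ := hP.mul a b
          rw [h, smul_mul_assoc, mul_smul_comm, mul_assoc, hb.2 y hy, ← mul_assoc, ha.2 y hy, mul_assoc]⟩
        one_mem' := ⟨M.one_mem, fun y _ => by
          obtain ⟨c, -, h⟩ := hP.one
          rw [h, smul_mul_assoc, mul_smul_comm, one_mul, mul_one]⟩
        inv_mem' := fun {a} ha => ⟨M.inv_mem ha.1, fun y hy => by
          obtain ⟨c, hc, h⟩ := hP.mul a a⁻¹
          obtain ⟨e, he, h1⟩ := hP.one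
          rw [mul_inv_cancel, h1] at h
          obtain ⟨u, hu⟩ := hP.unit a
          have hi : P a⁻¹ = (c⁻¹ * e) • ((u⁻¹ : Matˣ) : Mat) := by
            have h2 := congrArg (fun X => c⁻¹ • (((u⁻¹ : Matˣ) : Mat) * X)) h
            simp only [mul_smul_comm, smul_smul, inv_mul_cancel₀ hc, one_smul, mul_one, ← mul_assoc] at h2
            rw [← hu, Units.inv_mul, one_mul] at h2
            exact h2.symm
          have hcomm' : Commute ((u⁻¹ : Matˣ) : Mat) (P y) :=
            (show Commute (u : Mat) (P y) by rw [hu]; exact ha.2 y hy).units_inv_left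
          rw [hi, smul_mul_assoc, mul_smul_comm, hcomm'.eq]⟩ }
    haveI hRn : R.Normal := ⟨fun x hx g => ⟨hMn.conj_mem x hx.1 g, fun y hy => by
      obtain ⟨y', hy', rfl⟩ : ∃ y' ∈ M, g * y' * g⁻¹ = y :=
        ⟨g⁻¹ * y * g, by simpa using hMn.conj_mem y hy g⁻¹, by group⟩
      obtain ⟨u, hu⟩ := hP.unit g
      have hc1 : ∀ z, ∃ c : ℂ, P (g * z * g⁻¹) = c • (P g * P z * ((u⁻¹ : Matˣ) : Mat)) := by
        intro z
        obtain ⟨c1, -, h1⟩ := hP.mul (g * z) g⁻¹
        obtain ⟨c2, -, h2⟩ := hP.mul g z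
        obtain ⟨c3, hc3, h3⟩ := hP.mul g g⁻¹
        obtain ⟨c4, -, h4⟩ := hP.one
        rw [mul_inv_cancel, h4] at h3
        have hi : P g⁻¹ = (c3⁻¹ * c4) • ((u⁻¹ : Matˣ) : Mat) := by
          have h5 := congrArg (fun X => c3⁻¹ • (((u⁻¹ : Matˣ) : Mat) * X)) h3
          simp only [mul_smul_comm, smul_smul, inv_mul_cancel₀ hc3, one_smul, mul_one, ← mul_assoc] at h5
          rw [← hu, Units.inv_mul, one_mul] at h5
          exact h5.symm
        exact ⟨c1 * c2 * (c3⁻¹ * c4), by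
          rw [h1, h2, hi, smul_mul_assoc, mul_smul_comm, smul_smul, smul_smul, mul_assoc]⟩
      obtain ⟨a, ha⟩ := hc1 x
      obtain ⟨b, hb⟩ := hc1 y'
      rw [ha, hb, smul_mul_smul_comm, smul_mul_smul_comm, mul_comm a b]
      congr 1
      have e : ∀ A B : Mat, (P g * A * ((u⁻¹ : Matˣ) : Mat)) * (P g * B * ((u⁻¹ : Matˣ) : Mat)) =
          P g * (A * B) * ((u⁻¹ : Matˣ) : Mat) := fun A B => by
        rw [← hu]
        simp only [mul_assoc, Units.inv_mul_cancel_left]
      rw [e, e, hx.2 y' hy']⟩⟩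
    have ht' : Quotient.out (t : G ⧸ S) ∈ R := ⟨fM t, fun y hy => by
      obtain ⟨c, -, h⟩ := Pf y ⟨π y, hy⟩ rfl
      rw [h, mul_smul_comm, smul_mul_assoc]
      congr 1
      exact (hcomm _).symm⟩
    have hsc : IsScal (P (Quotient.out (t : G ⧸ S))) :=
      hQ R hRn _ (Submodule.subset_span ⟨_, ht', rfl⟩) fun m hm => (ht'.2 m hm.1)
    apply ht
    apply Subtype.ext
    rw [← hout t]
    exact (QuotientGroup.eq_one_iff _).2 hsc
  have hsum : ∀ t : N, t ≠ 1 → ∑ u, ω u t = 0 := by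
    intro t ht
    obtain ⟨v, hv⟩ := hnd t ht
    have h : ω v t * ∑ u, ω u t = ∑ u, ω u t := by
      rw [Finset.mul_sum]
      exact Fintype.sum_equiv (Equiv.mulLeft v) _ _ fun u => (ωleft v u t).symm
    by_contra hne
    exact hv (mul_right_cancel₀ hne (h.trans (one_mul _).symm))
  have hω1 : ∀ s, ω s 1 = 1 := fun s => by
    have h := ωright s 1 1
    rw [one_mul] at h
    exact mul_right_cancel₀ (hω0 s 1) (h.symm.trans (one_mul _).symm)
  have hnc : ¬ N ≤ Subgroup.center (G ⧸ S) := by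
    intro hc
    obtain ⟨⟨x, hxN⟩, hxne⟩ := Subgroup.ne_bot_iff_exists_ne_one.1 hNb
    have hx1 : x ≠ 1 := fun e => hxne (Subtype.ext e)
    have hz : Subgroup.zpowers x = N := hmin _ ⟨fun y hy g => by
      have : y ∈ Subgroup.center (G ⧸ S) := hc ((Subgroup.zpowers_le.2 hxN) hy)
      rwa [Subgroup.mem_center_iff.1 this g, mul_inv_cancel_right]⟩ (Subgroup.zpowers_le.2 hxN)
      (by rwa [Ne, Subgroup.zpowers_eq_bot])
    set t0 : N := ⟨x, hxN⟩
    obtain ⟨u, hu⟩ := hnd t0 (fun e => hx1 (congrArg Subtype.val e))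
    apply hu
    obtain ⟨k, hk⟩ := Subgroup.mem_zpowers_iff.1 (hz.ge u.2)
    let χ : N →* ℂˣ := MonoidHom.mk' (fun v => Units.mk0 (ω v t0) (hω0 v t0)) fun a b =>
      Units.ext (ωleft a b t0)
    have hu' : u = t0 ^ k := Subtype.ext (by rw [SubgroupClass.coe_zpow]; exact hk.symm)
    have h1 : χ t0 = 1 := Units.ext (scal_eq (funit' t0 t0) (by
      show ω t0 t0 • (f t0 * f t0) = (1 : ℂ) • (f t0 * f t0)
      rw [one_smul, ← hω]))
    exact congrArg Units.val (show χ u = 1 by rw [hu', map_zpow, h1, one_zpow])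
  refine ⟨hnc, ?_⟩
  -- the algebra of the layer and its centraliser
  set A : Submodule ℂ Mat := Submodule.span ℂ (Set.range f) with hAdef
  let B : Submodule ℂ Mat :=
    { carrier := {X | ∀ u, X * f u = f u * X}
      add_mem' := fun {a b} ha hb u => by rw [add_mul, mul_add, ha u, hb u]
      zero_mem' := fun u => by rw [zero_mul, mul_zero]
      smul_mem' := fun c a ha u => by rw [smul_mul_assoc, mul_smul_comm, ha u] }
  have hfA : ∀ t, f t ∈ A := fun t => Submodule.subset_span ⟨t, rfl⟩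
  have hAM : ∀ X ∈ A, X ∈ Submodule.span ℂ (P '' (M : Set G)) := fun X hX =>
    Submodule.span_mono (R := ℂ) (show Set.range f ⊆ P '' (M : Set G) by
      rintro _ ⟨t, rfl⟩; exact ⟨_, fM t, rfl⟩) hX
  have hPA : ∀ m ∈ M, P m ∈ A := fun m hm => by
    obtain ⟨c, -, h⟩ := Pf m ⟨π m, hm⟩ rfl
    rw [h]; exact A.smul_mem _ (hfA _)
  have hMA : ∀ X ∈ Submodule.span ℂ (P '' (M : Set G)), X ∈ A := fun X hX =>
    Submodule.span_le.2 (by rintro _ ⟨m, hm, rfl⟩; exact hPA m hm) hX
  have hAmul : ∀ X ∈ A, ∀ Y ∈ A, X * Y ∈ A := fun X hX Y hY =>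
    hMA _ (hP.span_mul M (hAM X hX) (hAM Y hY))
  have hA1 : (1 : Mat) ∈ A := hMA _ (hP.one_mem_span M)
  have hBA : ∀ X ∈ B, ∀ Y ∈ A, X * Y = Y * X := fun X hX Y hY => by
    induction hY using Submodule.span_induction with
    | mem y hy => obtain ⟨t, rfl⟩ := hy; exact hX t
    | zero => simp
    | add y z _ _ hy hz => rw [mul_add, add_mul, hy, hz]
    | smul c y _ hy => rw [mul_smul_comm, smul_mul_assoc, hy]
  have hcj : ∀ (u t : N) (x : Mat), x ∈ B →
      f u * (f t * x) * ((fu u)⁻¹ : Matˣ) = ω u t • (f t * x) := by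
    intro u t x hx
    rw [← mul_assoc (f u), hω u t, smul_mul_assoc, smul_mul_assoc]
    congr 1
    rw [mul_assoc (f t) (f u) x, ← hx u, ← mul_assoc (f t) x (f u), mul_assoc (f t * x) (f u), ← hfu u,
      Units.mul_inv, mul_one]
  have hind : ∀ x : N → Mat, (∀ t, x t ∈ B) → (∑ t, f t * x t = 0) → ∀ t, x t = 0 := by
    intro x hx h0 t0
    have h1 : ∀ u, ∑ t, ω u (t * t0⁻¹) • (f t * x t) = 0 := by
      intro u
      have h2 : ∑ t, ω u t • (f t * x t) = 0 := by
        rw [Finset.sum_congr rfl (fun t _ => (hcj u t (x t) (hx t)).symm), ← Finset.sum_mul,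
          ← Finset.mul_sum, h0, mul_zero, zero_mul]
      have h3 := congrArg (fun X => ω u t0⁻¹ • X) h2
      simp only [smul_zero, Finset.smul_sum, smul_smul] at h3
      rw [← h3]
      exact Finset.sum_congr rfl fun t _ => by rw [ωright, mul_comm]
    have h4 : ∑ u, ∑ t, ω u (t * t0⁻¹) • (f t * x t) = 0 := Finset.sum_eq_zero fun u _ => h1 u
    rw [Finset.sum_comm] at h4
    simp_rw [← Finset.sum_smul] at h4
    rw [Finset.sum_eq_single t0 (fun t _ ht => by
      rw [hsum _ (fun e => ht (mul_inv_eq_one.1 e)), zero_smul]) (fun hh => absurd (Finset.mem_univ t0) hh),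
      mul_inv_cancel, Finset.sum_congr rfl (fun u _ => hω1 u), Finset.sum_const, Finset.card_univ,
      nsmul_eq_mul, mul_one] at h4
    rcases smul_eq_zero.1 h4 with h5 | h5
    · exact absurd h5 (Nat.cast_ne_zero.2 Fintype.card_ne_zero)
    · have h6 := congrArg (fun X : Mat => (((fu t0)⁻¹ : Matˣ) : Mat) * X) h5
      simp only [mul_zero, ← mul_assoc, ← hfu t0, Units.inv_mul, one_mul] at h6
      exact h6
  have hAB : ∀ X ∈ A, X ∈ B → IsScal X := by
    intro X hX hXB
    obtain ⟨c, hc⟩ := (Submodule.mem_span_range_iff_exists_fun ℂ).1 hX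
    have h1B : ∀ d : ℂ, d • (1 : Mat) ∈ B := fun d u => by
      rw [smul_mul_assoc, mul_smul_comm, one_mul, mul_one]
    obtain ⟨e, he, hf1⟩ := fone
    have hx : ∀ t, (if t = 1 then c t • (1 : Mat) - e⁻¹ • X else c t • (1 : Mat)) ∈ B := fun t => by
      split_ifs
      · exact B.sub_mem (h1B _) (B.smul_mem _ hXB)
      · exact h1B _
    have h0 : ∑ t, f t * (if t = 1 then c t • (1 : Mat) - e⁻¹ • X else c t • (1 : Mat)) = 0 := by
      have : ∀ t, f t * (if t = 1 then c t • (1 : Mat) - e⁻¹ • X else c t • (1 : Mat)) =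
          c t • f t - (if t = 1 then X else 0) := by
        intro t
        split_ifs with h
        · subst h
          rw [mul_sub, mul_smul_comm, mul_one, mul_smul_comm, hf1, smul_mul_assoc, one_mul, smul_smul _ e X,
            inv_mul_cancel₀ he, one_smul]
        · rw [mul_smul_comm, mul_one, sub_zero]
      rw [Finset.sum_congr rfl (fun t _ => this t), Finset.sum_sub_distrib, hc]
      simp
    have h2 := hind _ hx h0 1
    rw [if_pos rfl, sub_eq_zero] at h2
    exact ⟨e * c 1, by rw [← smul_smul, h2, smul_smul, mul_inv_cancel₀ he, one_smul]⟩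
  -- intertwiners
  have key : ∀ g : G, ∃ a z : Mat, a ∈ A ∧ z ∈ A ∧ a * z = 1 ∧ z * a = 1 ∧ z * P g ∈ B := by
    intro g
    obtain ⟨ug, hug⟩ := hP.unit g
    let σ : N → N := fun t => ⟨π g * t * (π g)⁻¹, hNn.conj_mem _ t.2 _⟩
    have hσ : Function.Bijective σ :=
      (Finite.injective_iff_bijective).1 fun a b h => Subtype.ext (by simpa [σ] using congrArg Subtype.val h)
    let F : N → Mat := fun t => P g * f t * ((ug⁻¹ : Matˣ) : Mat)
    have hF : ∀ t, ∃ c : ℂ, c ≠ 0 ∧ F t = c • f (σ t) := by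
      intro t
      obtain ⟨c, hc, h⟩ := hP.mul g (Quotient.out (t : G ⧸ S))
      obtain ⟨d, hd, h'⟩ := hP.mul (g * Quotient.out (t : G ⧸ S) * g⁻¹) g
      obtain ⟨e, he, h''⟩ := Pf (g * Quotient.out (t : G ⧸ S) * g⁻¹) (σ t)
        (by rw [map_mul, map_mul, map_inv, hout])
      rw [inv_mul_cancel_right, h, h'', smul_mul_assoc, smul_smul] at h'
      refine ⟨c⁻¹ * (d * e), mul_ne_zero (inv_ne_zero hc) (mul_ne_zero hd he), ?_⟩
      show P g * P (Quotient.out (t : G ⧸ S)) * _ = _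
      have h3 : P g * P (Quotient.out (t : G ⧸ S)) = (c⁻¹ * (d * e)) • (f (σ t) * P g) := by
        rw [← smul_smul, ← h', smul_smul, inv_mul_cancel₀ hc, one_smul]
      rw [h3, smul_mul_assoc, mul_assoc, ← hug, Units.mul_inv, mul_one]
    have hFA : ∀ t, F t ∈ A := fun t => by
      obtain ⟨c, -, h⟩ := hF t; rw [h]; exact A.smul_mem _ (hfA _)
    have hinvA : ∀ t, (((fu t)⁻¹ : Matˣ) : Mat) ∈ A := by
      intro t
      obtain ⟨c, hc, h⟩ := fmul t t⁻¹
      obtain ⟨e, he, h1⟩ := fone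
      rw [mul_inv_cancel, h1, smul_smul] at h
      have : (((fu t)⁻¹ : Matˣ) : Mat) = (c * e)⁻¹ • f t⁻¹ := by
        have h2 := congrArg (fun X => (((fu t)⁻¹ : Matˣ) : Mat) * X) h
        simp only [← mul_assoc, ← hfu t, Units.inv_mul, one_mul, mul_smul_comm, mul_one] at h2
        rw [h2, smul_smul, inv_mul_cancel₀ (mul_ne_zero hc he), one_smul]
      rw [this]; exact A.smul_mem _ (hfA _)
    let a0 : Mat → Mat := fun X => ∑ t, F t * X * (((fu t)⁻¹ : Matˣ) : Mat)
    have htw : ∀ (X : Mat) (s : N), F s * a0 X = a0 X * f s := by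
      intro X s
      have : F s * a0 X * (((fu s)⁻¹ : Matˣ) : Mat) = a0 X := by
        simp only [a0, Finset.mul_sum, Finset.sum_mul]
        refine Fintype.sum_equiv (Equiv.mulLeft s) _ _ fun t => ?_
        show _ = F (s * t) * X * _
        obtain ⟨c, hc, h⟩ := fmul s t
        have hF2 : F s * F t = c • F (s * t) := by
          simp only [F]
          rw [show P g * f s * ((ug⁻¹ : Matˣ) : Mat) * (P g * f t * ((ug⁻¹ : Matˣ) : Mat)) =
            P g * (f s * f t) * ((ug⁻¹ : Matˣ) : Mat) by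
              rw [← hug]; simp only [mul_assoc, Units.inv_mul_cancel_left], h, mul_smul_comm, smul_mul_assoc]
        have hi : (((fu t)⁻¹ : Matˣ) : Mat) * (((fu s)⁻¹ : Matˣ) : Mat) =
            c⁻¹ • (((fu (s * t))⁻¹ : Matˣ) : Mat) := by
          have h7 : ((fu s * fu t : Matˣ) : Mat) * (c⁻¹ • (((fu (s * t))⁻¹ : Matˣ) : Mat)) = 1 := by
            rw [Units.val_mul, hfu, hfu, h, smul_mul_smul_comm, mul_inv_cancel₀ hc, one_smul, ← hfu (s * t),
              Units.mul_inv]
          rw [← Units.val_mul, ← mul_inv_rev]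
          exact Units.inv_eq_of_mul_eq_one_right h7
        calc F s * (F t * X * (((fu t)⁻¹ : Matˣ) : Mat)) * (((fu s)⁻¹ : Matˣ) : Mat)
            = (F s * F t) * X * ((((fu t)⁻¹ : Matˣ) : Mat) * (((fu s)⁻¹ : Matˣ) : Mat)) := by
              simp only [mul_assoc]
          _ = F (s * t) * X * (((fu (s * t))⁻¹ : Matˣ) : Mat) := by
              rw [hF2, hi, smul_mul_assoc, smul_mul_smul_comm, mul_inv_cancel₀ hc, one_smul]
          _ = _ := rfl
      conv_rhs => rw [← this]
      rw [mul_assoc (F s * a0 X), ← hfu s, Units.inv_mul, mul_one]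
    obtain ⟨u0, hu0⟩ : ∃ u, a0 (f u) ≠ 0 := by
      by_contra hall
      push Not at hall
      have h1 : ∑ u, a0 (f u) * (((fu u)⁻¹ : Matˣ) : Mat) = 0 :=
        Finset.sum_eq_zero fun u _ => by rw [hall u, zero_mul]
      simp only [a0, Finset.sum_mul] at h1
      rw [Finset.sum_comm] at h1
      have h2 : ∀ t u, F t * f u * (((fu t)⁻¹ : Matˣ) : Mat) * (((fu u)⁻¹ : Matˣ) : Mat) =
          ω u t⁻¹ • (F t * (((fu t)⁻¹ : Matˣ) : Mat)) := by
        intro t u
        have hw : f u * (((fu t)⁻¹ : Matˣ) : Mat) = ω u t⁻¹ • ((((fu t)⁻¹ : Matˣ) : Mat) * f u) := by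
          have e1 : ω u t⁻¹ * ω u t = 1 := by rw [← ωright, inv_mul_cancel, hω1]
          have h3 : f t * f u = ω u t⁻¹ • (f u * f t) := by rw [hω u t, smul_smul, e1, one_smul]
          have h4 := congrArg (fun X => (((fu t)⁻¹ : Matˣ) : Mat) * X * (((fu t)⁻¹ : Matˣ) : Mat)) h3
          simp only [mul_smul_comm, smul_mul_assoc, ← mul_assoc] at h4
          rw [← hfu t, Units.inv_mul, one_mul, mul_assoc _ (f u) ((fu t : Mat)), mul_assoc _ ((f u * (fu t : Mat))) _,
            mul_assoc (f u) ((fu t : Mat)), Units.mul_inv, mul_one] at h4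
          exact h4
        rw [mul_assoc (F t), hw, mul_smul_comm, smul_mul_assoc, mul_assoc, mul_assoc _ (f u), ← hfu u,
          Units.mul_inv, mul_one]
      simp_rw [h2, ← Finset.sum_smul] at h1
      rw [Finset.sum_eq_single (1 : N) (fun t _ ht => by rw [hsum _ (by rwa [ne_eq, inv_eq_one]), zero_smul])
        (fun hh => absurd (Finset.mem_univ _) hh), inv_one, Finset.sum_congr rfl (fun u _ => hω1 u),
        Finset.sum_const, Finset.card_univ, nsmul_eq_mul, mul_one] at h1
      obtain ⟨e, he, hf1⟩ := fone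
      have hFu : IsUnit (F 1 * (((fu 1)⁻¹ : Matˣ) : Mat)) :=
        (((hP.unit g).mul (hP.unit _)).mul (Units.isUnit _)).mul (Units.isUnit _)
      rcases smul_eq_zero.1 h1 with h5 | h5
      · exact Fintype.card_ne_zero (Nat.cast_eq_zero.1 h5)
      · exact hFu.ne_zero h5
    set a := a0 (f u0) with ha
    have haA : a ∈ A := A.sum_mem fun t _ => hAmul _ (hAmul _ (hFA t) _ (hfA _)) _ (hinvA t)
    obtain ⟨c, hc⟩ := (Submodule.mem_span_range_iff_exists_fun ℂ).1 haA
    obtain ⟨t0, ht0⟩ : ∃ t, c t ≠ 0 := by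
      by_contra hall
      push Not at hall
      exact hu0 (by rw [← hc]; simp [hall])
    -- left multiples of `a` by the layer are right multiples
    have hmove : ∀ u, ∃ y ∈ A, f u * a * (((fu u)⁻¹ : Matˣ) : Mat) = a * y := by
      intro u
      obtain ⟨v, rfl⟩ := hσ.2 u
      obtain ⟨k, hk, hkv⟩ := hF v
      refine ⟨k⁻¹ • (f v * (((fu (σ v))⁻¹ : Matˣ) : Mat)), A.smul_mem _ (hAmul _ (hfA v) _ (hinvA _)), ?_⟩
      have : f (σ v) = k⁻¹ • F v := by rw [hkv, smul_smul, inv_mul_cancel₀ hk, one_smul]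
      rw [this, smul_mul_assoc, smul_mul_assoc, htw, mul_smul_comm, mul_assoc]
    choose y hyA hy using hmove
    have hcoef : ∑ u, ω u t0⁻¹ • (f u * a * (((fu u)⁻¹ : Matˣ) : Mat)) =
        ((Fintype.card N : ℂ) * c t0) • f t0 := by
      have h1 : ∀ u, f u * a * (((fu u)⁻¹ : Matˣ) : Mat) = ∑ t, (c t * ω u t) • f t := by
        intro u
        rw [← hc, Finset.mul_sum, Finset.sum_mul]
        refine Finset.sum_congr rfl fun t _ => ?_
        have h2 := hcj u t 1 (fun v => by rw [one_mul, mul_one])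
        rw [mul_one] at h2
        rw [mul_smul_comm, smul_mul_assoc, h2, smul_smul]
      simp_rw [h1, Finset.smul_sum, smul_smul]
      rw [Finset.sum_comm]
      simp_rw [← Finset.sum_smul]
      rw [Finset.sum_eq_single t0]
      · congr 1
        rw [Finset.sum_congr rfl (fun u _ => show ω u t0⁻¹ * (c t0 * ω u t0) = c t0 by
          rw [mul_left_comm, ← ωright, inv_mul_cancel, hω1, mul_one]), Finset.sum_const, Finset.card_univ,
          nsmul_eq_mul]
      · intro t _ ht
        rw [Finset.sum_congr rfl (fun u _ => show ω u t0⁻¹ * (c t * ω u t) = c t * ω u (t0⁻¹ * t) by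
          rw [mul_left_comm, ← ωright]), ← Finset.mul_sum, hsum _ (fun e => ht (inv_mul_eq_one.1 e).symm),
          mul_zero, zero_smul]
      · exact fun hh => absurd (Finset.mem_univ _) hh
    set K := (Fintype.card N : ℂ) * c t0 with hK
    have hK0 : K ≠ 0 := mul_ne_zero (Nat.cast_ne_zero.2 Fintype.card_ne_zero) ht0
    set z := (∑ u, ω u t0⁻¹ • y u) * (K⁻¹ • (((fu t0)⁻¹ : Matˣ) : Mat)) with hz
    have hzA : z ∈ A := hAmul _ (A.sum_mem fun u _ => A.smul_mem _ (hyA u)) _ (A.smul_mem _ (hinvA t0))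
    have haz : a * z = 1 := by
      have h1 : a * ∑ u, ω u t0⁻¹ • y u = K • f t0 := by
        rw [← hcoef, Finset.mul_sum]
        exact Finset.sum_congr rfl fun u _ => by rw [mul_smul_comm, hy u]
      rw [hz, ← mul_assoc, h1, smul_mul_smul_comm, mul_inv_cancel₀ hK0, one_smul, ← hfu t0, Units.mul_inv]
    have hza : z * a = 1 := mul_eq_one_comm.1 haz
    refine ⟨a, z, haA, hzA, haz, hza, fun s => ?_⟩
    have h1 : f s * z = z * F s := by
      have h2 := congrArg (fun X => z * X * z) (htw (f u0) s)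
      simp only [← ha] at h2
      rw [← mul_assoc z a, hza, one_mul, mul_assoc z, mul_assoc (F s), haz, mul_one] at h2
      exact h2.symm
    rw [← mul_assoc, h1, mul_assoc z, mul_assoc z]
    congr 1
    simp only [F]
    rw [mul_assoc (P g * f s), ← hug, Units.inv_mul, mul_one]
  choose a z haA hzA haz hza hzB using key
  let P' : G → Mat := fun g => z g * P g
  have hPeq : ∀ g, P g = a g * P' g := fun g => by
    show P g = a g * (z g * P g); rw [← mul_assoc, haz, one_mul]
  have hP'u : ∀ g, IsUnit (P' g) := fun g =>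
    IsUnit.mul (Units.isUnit (⟨z g, a g, hza g, haz g⟩ : Matˣ)) (hP.unit g)
  have hmul' : ∀ g h, ∃ c : ℂ, c ≠ 0 ∧ P' (g * h) = c • (P' g * P' h) := by
    intro g h
    obtain ⟨c, hc, e⟩ := hP.mul g h
    set Y := c • (z (g * h) * a g * a h) with hY
    have hYA : Y ∈ A := A.smul_mem _ (hAmul _ (hAmul _ (hzA _) _ (haA g)) _ (haA h))
    have heq : P' (g * h) = Y * (P' g * P' h) := by
      show z (g * h) * P (g * h) = _
      rw [e, hPeq g, hPeq h, mul_assoc (a g) (P' g), ← mul_assoc (P' g) (a h),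
        hBA _ (hzB g) _ (haA h), mul_assoc (a h), hY, smul_mul_assoc, mul_smul_comm]
      simp only [P', mul_assoc]
    have hYB : Y ∈ B := by
      obtain ⟨v, hv⟩ := (hP'u g).mul (hP'u h)
      intro u
      have hBm : ∀ X ∈ B, ∀ Z ∈ B, X * Z ∈ B := fun X hX Z hZ w => by
        rw [mul_assoc, hZ w, ← mul_assoc, hX w, mul_assoc]
      have hvB : (v : Mat) ∈ B := hv ▸ hBm _ (hzB g) _ (hzB h)
      have hvi : Commute ((v⁻¹ : Matˣ) : Mat) (f u) := (show Commute (v : Mat) (f u) from hvB u).units_inv_left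
      have hYv : Y = P' (g * h) * ((v⁻¹ : Matˣ) : Mat) := by
        rw [heq, ← hv, mul_assoc, Units.mul_inv, mul_one]
      rw [hYv, mul_assoc, hvi.eq, ← mul_assoc, show P' (g * h) * f u = f u * P' (g * h) from hzB _ u, mul_assoc]
    obtain ⟨d, hd⟩ := hAB Y hYA hYB
    refine ⟨d, fun h0 => ?_, by rw [heq, hd, smul_mul_assoc, one_mul]⟩
    rw [hd, h0, zero_smul, zero_mul] at heq
    exact (hP'u _).ne_zero heq
  have hP' : Proj P' := ⟨hP'u, hmul'⟩
  refine ⟨P', hP', ?_, ?_, ?_⟩
  · intro L hL X hX hcomm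
    haveI := hL
    set L' := L ⊔ M with hL'
    have hle : ∀ Y ∈ A, Y ∈ Submodule.span ℂ (P '' (L' : Set G)) := fun Y hY =>
      Submodule.span_mono (Set.image_mono (SetLike.coe_subset_coe.2 le_sup_right)) (hAM Y hY)
    have hXB : X ∈ B := Submodule.span_le.2 (by rintro _ ⟨m, -, rfl⟩; exact hzB m) hX
    refine hQ L' inferInstance X ?_ fun m hm => ?_
    · refine Submodule.span_le.2 ?_ hX
      rintro _ ⟨m, hm, rfl⟩
      exact hP.span_mul L' (hle _ (hzA m))
        (Submodule.subset_span ⟨m, (le_sup_left : L ≤ L') hm, rfl⟩)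
    · obtain ⟨l, hl, m', hm', rfl⟩ := Subgroup.mem_sup_of_normal_right.1 hm
      obtain ⟨c, -, e⟩ := hP.mul l m'
      rw [e, mul_smul_comm, smul_mul_assoc]
      congr 1
      have h2 : X * P l = P l * X := by
        rw [hPeq l, ← mul_assoc, hBA X hXB _ (haA l), mul_assoc, hcomm l hl, ← mul_assoc]
      rw [← mul_assoc, h2, mul_assoc, hBA X hXB _ (hPA m' hm'), mul_assoc]
  · intro m hm
    rw [hP'.mem_kernel]
    exact hAB _ (hAmul _ (hzA m) _ (hPA m hm)) (hzB m)
  · set V := Submodule.span ℂ (Set.range P') with hV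
    have hVB : ∀ x ∈ V, x ∈ B := fun x hx => Submodule.span_le.2 (by rintro _ ⟨g, rfl⟩; exact hzB g) hx
    let Φ : (N → V) →ₗ[ℂ] Mat :=
      { toFun := fun x => ∑ t, f t * (x t : Mat)
        map_add' := fun x y => by simp [mul_add, Finset.sum_add_distrib]
        map_smul' := fun c x => by simp [Finset.smul_sum, mul_smul_comm] }
    have hΦi : Function.Injective Φ := by
      rw [← LinearMap.ker_eq_bot, LinearMap.ker_eq_bot']
      intro x hx
      funext t
      exact Subtype.ext (hind (fun t => (x t : Mat)) (fun t => hVB _ (x t).2) hx t)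
    have hrange : LinearMap.range Φ = Submodule.span ℂ (Set.range P) := by
      have htop : Set.range P = P '' ((⊤ : Subgroup G) : Set G) := by simp
      refine le_antisymm ?_ ?_
      · rintro _ ⟨x, rfl⟩
        rw [htop]
        refine Submodule.sum_mem _ fun t _ => hP.span_mul ⊤ (Submodule.subset_span ⟨_, trivial, rfl⟩) ?_
        have hmono : V ≤ Submodule.span ℂ (P '' ((⊤ : Subgroup G) : Set G)) := by
          rw [hV, Submodule.span_le]
          rintro _ ⟨g, rfl⟩
          exact hP.span_mul ⊤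
            (Submodule.span_mono (Set.image_mono (fun _ _ => trivial)) (hAM _ (hzA g)))
            (Submodule.subset_span ⟨g, trivial, rfl⟩)
        exact hmono (x t).2
      · rw [Submodule.span_le]
        rintro _ ⟨g, rfl⟩
        obtain ⟨c, hc⟩ := (Submodule.mem_span_range_iff_exists_fun ℂ).1 (haA g)
        refine ⟨fun t => c t • ⟨P' g, Submodule.subset_span ⟨g, rfl⟩⟩, ?_⟩
        show ∑ t, f t * (c t • P' g) = P g
        rw [hPeq g, ← hc, Finset.sum_mul]
        exact Finset.sum_congr rfl fun t _ => by rw [mul_smul_comm, smul_mul_assoc]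
    rw [← hrange, LinearMap.finrank_range_of_inj hΦi, Module.finrank_pi_fintype, Finset.sum_const,
      Finset.card_univ, smul_eq_mul, Nat.card_eq_fintype_card]

end Cfsg.Agent.PrimClass
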